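/-
A p-group, p odd, generated by two sets of elements whose fixed spaces pairwise span acts trivially.
-/
import Mathlib
import Cfsg.Agent.S0126
import Cfsg.Agent.Lib.Elementary

set_option linter.unusedSectionVars false
set_option linter.style.haveILetI false

namespace CfsgLib.GeneratedPairs

open Finset

/-- The cyclic sums attached to two commuting operators of order `p`. -/
def cycSum {R : Type*} [Ring R] (p : ℕ) (e z : R) (i : ZMod p) : R :=
  ∑ j : Fin p, (e * z ^ i.val) ^ (j : ℕ)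

theorem pow_val_add {M : Type*} [Monoid M] {p : ℕ} [NeZero p] {z : M} (hz : z ^ p = 1) (a b : ZMod p) : z ^ (a + b).val = z ^ a.val * z ^ b.val := by
  rw [← pow_add, ZMod.val_add, ← pow_mod_orderOf, ← pow_mod_orderOf (n := a.val + b.val)]
  congr 1
  exact Nat.mod_mod_of_dvd _ (orderOf_dvd_of_pow_eq_one hz)

theorem end_sum_apply {A : Type*} [AddCommGroup A] {ι : Type*} (s : Finset ι) (f : ι → AddMonoid.End A) (a : A) :
    (∑ i ∈ s, f i) a = ∑ i ∈ s, f i a := by
  classical
  induction s using Finset.induction with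
  | empty => simp
  | insert b s hb ih => rw [Finset.sum_insert hb, Finset.sum_insert hb, ← ih]; rfl

section Ring

variable {R : Type*} [Ring R] {p : ℕ} [Fact p.Prime] {e z : R}

theorem cycSum_sum (hez : Commute e z) (hz : z ^ p = 1) (hS : ∑ j : Fin p, z ^ (j : ℕ) = 0) :
    ∑ i : ZMod p, cycSum p e z i = (p : R) := by
  classical
  have hp := (Fact.out : p.Prime)
  haveI : NeZero p := ⟨hp.ne_zero⟩
  have hSz : ∑ i : ZMod p, z ^ i.val = 0 := by
    rw [← hS]
    exact (Fintype.sum_equiv (ZMod.finEquiv p).toEquiv _ _ (fun j => by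
      obtain ⟨m, rfl⟩ : ∃ m, p = m + 1 := ⟨p - 1, by have := hp.pos; omega⟩
      rfl)).symm
  simp only [cycSum]
  rw [Finset.sum_comm]
  have key : ∀ j : Fin p, ∑ i : ZMod p, (e * z ^ i.val) ^ (j : ℕ) = if (j : ℕ) = 0 then (p : R) else 0 := by
    intro j
    by_cases hj : (j : ℕ) = 0
    · simp [hj]
    · rw [if_neg hj]
      have h1 : ∀ i : ZMod p, (e * z ^ i.val) ^ (j : ℕ) = e ^ (j : ℕ) * z ^ (i * ((j : ℕ) : ZMod p)).val := by
        intro i
        rw [(hez.pow_right _).mul_pow, ← pow_mul, ← pow_mod_orderOf z, ← pow_mod_orderOf z (i * _).val,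
          ZMod.val_mul, ZMod.val_natCast]
        congr 2
        rw [Nat.mul_mod_mod, Nat.mod_mod_of_dvd _ (orderOf_dvd_of_pow_eq_one hz)]
      simp only [h1, ← Finset.mul_sum]
      have hju : IsUnit ((j : ℕ) : ZMod p) := by
        rw [isUnit_iff_ne_zero, Ne, ZMod.natCast_eq_zero_iff]
        exact fun hd => absurd (Nat.le_of_dvd (Nat.pos_of_ne_zero hj) hd) (by have := j.2; omega)
      obtain ⟨u, hu⟩ := hju
      rw [← hu, Fintype.sum_equiv (Units.mulRight u) (fun i : ZMod p => z ^ (i * (u : ZMod p)).val) (fun i => z ^ i.val)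
        (fun i => rfl), hSz, mul_zero]
  simp only [key]
  rw [Finset.sum_eq_single (⟨0, hp.pos⟩ : Fin p) (fun j _ hj => if_neg fun h => hj (Fin.ext h))
    (fun h => absurd (Finset.mem_univ _) h), if_pos rfl]

theorem mul_cycSum (hep : e ^ p = 1) (hz : z ^ p = 1) (hez : Commute e z) (i : ZMod p) :
    e * z ^ i.val * cycSum p e z i = cycSum p e z i := by
  have hpow : (e * z ^ i.val) ^ p = 1 := by
    rw [(hez.pow_right _).mul_pow, hep, ← pow_mul, mul_comm, pow_mul, hz, one_pow, one_mul]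
  rw [cycSum, Finset.mul_sum]
  obtain ⟨m, hm⟩ : ∃ m, p = m + 1 := ⟨p - 1, by have := (Fact.out : p.Prime).pos; omega⟩
  subst hm
  conv_lhs => rw [Fin.sum_univ_castSucc]
  conv_rhs => rw [Fin.sum_univ_succ]
  simp only [Fin.val_castSucc, Fin.val_last, Fin.val_succ, Fin.val_zero, pow_zero, ← pow_succ']
  rw [hpow, add_comm]

theorem cycSum_commute (hez : Commute e z) (i k : ZMod p) : Commute (cycSum p e z i) (cycSum p e z k) := by
  refine Commute.sum_left _ _ _ fun a _ => Commute.sum_right _ _ _ fun b _ => Commute.pow_pow ?_ _ _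
  exact Commute.mul_left ((Commute.refl e).mul_right (hez.pow_right _))
    ((hez.symm.pow_left _).mul_right (Commute.pow_pow_self z _ _))

end Ring

variable {A : Type*} [AddCommGroup A] [Finite A]

theorem eq_zero_of_nsmul {p : ℕ} (hA : (Nat.card A).Coprime p) {a : A} (h : p • a = 0) : a = 0 := by
  rw [← AddMonoid.addOrderOf_eq_one_iff]
  exact Nat.eq_one_of_dvd_coprimes hA (addOrderOf_dvd_natCard a) (addOrderOf_dvd_of_nsmul_eq_zero h)

variable {P : Type*} [Group P] [Finite P] {p : ℕ} [Fact p.Prime]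

/-- The irreducible case. -/
theorem false_of_irreducible (hp : p ≠ 2) (hP : IsPGroup p P) (hA : (Nat.card A).Coprime p) [Nontrivial A]
    [Nontrivial P] (ρ : P →* AddMonoid.End A) (hinj : Function.Injective ρ)
    (hirr : ∀ U : AddSubgroup A, (∀ g : P, ∀ u ∈ U, ρ g u ∈ U) → U = ⊥ ∨ U = ⊤)
    (C D : Set P) (hC : Subgroup.closure C = ⊤) (hD : Subgroup.closure D = ⊤)
    (hsum : ∀ c ∈ C, ∀ d ∈ D, ∀ a : A, ∃ x y, ρ c x = x ∧ ρ d y = y ∧ a = x + y) : False := by
  classical
  have hρ1 : ∀ a : A, ρ 1 a = a := fun a => by rw [map_one]; rfl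
  have hρm : ∀ (g h : P) (a : A), ρ (g * h) a = ρ g (ρ h a) := fun g h a => by rw [map_mul]; rfl
  -- central elements fix nothing
  have hcent : ∀ g ∈ Subgroup.center P, g ≠ 1 → ∀ a : A, ρ g a = a → a = 0 := by
    intro g hg hg1 a ha
    let U : AddSubgroup A :=
      { carrier := {a | ρ g a = a}
        add_mem' := fun {x y} hx hy => by
          show ρ g (x + y) = x + y
          rw [map_add, hx, hy]
        zero_mem' := map_zero _
        neg_mem' := fun {x} hx => by
          show ρ g (-x) = -x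
          rw [map_neg, hx] }
    rcases hirr U (fun h u hu => by
      show ρ g (ρ h u) = ρ h u
      rw [← hρm, ← Subgroup.mem_center_iff.mp hg h, hρm, hu]) with h | h
    · have : a ∈ U := ha
      rw [h] at this
      simpa using this
    · exfalso
      apply hg1
      apply hinj
      rw [map_one]
      ext x
      have : x ∈ U := h ▸ AddSubgroup.mem_top x
      exact this
  -- hence the group is not commutative
  have hnc : ¬ IsCyclic P := by
    intro hcyc
    haveI := hcyc
    have hcen : ∀ g : P, g ∈ Subgroup.center P := fun g => Subgroup.mem_center_iff.mpr fun h =>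
      by haveI := IsCyclic.commutative (α := P); exact mul_comm' h g
    obtain ⟨c, hc, hc1⟩ : ∃ c ∈ C, c ≠ 1 := by
      by_contra h
      push Not at h
      exact top_ne_bot (α := Subgroup P) (hC ▸ Subgroup.closure_eq_bot_iff.mpr fun x hx => h x hx)
    obtain ⟨d, hd, hd1⟩ : ∃ d ∈ D, d ≠ 1 := by
      by_contra h
      push Not at h
      exact top_ne_bot (α := Subgroup P) (hD ▸ Subgroup.closure_eq_bot_iff.mpr fun x hx => h x hx)
    obtain ⟨a, ha⟩ := exists_ne (0 : A)
    obtain ⟨x, y, hx, hy, rfl⟩ := hsum c hc d hd a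
    rw [hcent c (hcen c) hc1 x hx, hcent d (hcen d) hd1 y hy, add_zero] at ha
    exact ha rfl
  obtain ⟨E, hEn, ⟨hEc, hEp⟩, hEcard⟩ := Cfsg.Agent.S0126.result hp hP hnc
  haveI := hEn
  haveI := hEc
  haveI : Group.IsNilpotent P := hP.isNilpotent
  have hp' := (Fact.out : p.Prime)
  have hEne : E ≠ ⊥ := fun h => by
    rw [h, Subgroup.card_bot] at hEcard
    exact (Nat.one_lt_pow (two_ne_zero) hp'.one_lt).ne hEcard
  obtain ⟨z, hz, hz1⟩ := (Subgroup.ne_bot_iff_exists_ne_one).mp (CfsgLib.inf_center_ne_bot_of_nilpotent hEne)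
    |> fun ⟨w, hw⟩ => (⟨w.1, w.2, fun h => hw (Subtype.ext h)⟩ : ∃ z ∈ E ⊓ Subgroup.center P, z ≠ 1)
  obtain ⟨hzE, hzZ⟩ := Subgroup.mem_inf.mp hz
  have hzp : z ^ p = 1 := hEp z hzE
  have hzord : orderOf z = p := orderOf_eq_prime hzp hz1
  obtain ⟨e, heE, hez⟩ : ∃ e ∈ E, e ∉ Subgroup.zpowers z := by
    by_contra h
    push Not at h
    have := Subgroup.card_le_of_le (show E ≤ Subgroup.zpowers z from h)
    rw [Nat.card_zpowers, hzord, hEcard] at this
    nlinarith [hp'.two_le]
  have hep : e ^ p = 1 := hEp e heE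
  have hcomm : Commute e z := Subgroup.mem_center_iff.mp hzZ e
  -- coordinates on `E`
  have hrep : ∀ w ∈ E, ∃ b a : Fin p, w = e ^ (b : ℕ) * z ^ (a : ℕ) := by
    let f : Fin p × Fin p → E := fun ba => ⟨e ^ (ba.1 : ℕ) * z ^ (ba.2 : ℕ), mul_mem (pow_mem heE _) (pow_mem hzE _)⟩
    have hfi : Function.Injective f := by
      rintro ⟨b, a⟩ ⟨b', a'⟩ h
      have h' : e ^ (b : ℕ) * z ^ (a : ℕ) = e ^ (b' : ℕ) * z ^ (a' : ℕ) := congrArg Subtype.val h
      have hb : b = b' := by
        by_contra hne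
        apply hez
        have hk : e ^ ((b : ℤ) - b') ∈ Subgroup.zpowers z := by
          rw [zpow_sub, zpow_natCast, zpow_natCast]
          have h2 : (e ^ (b' : ℕ))⁻¹ * e ^ (b : ℕ) = z ^ (a' : ℕ) * (z ^ (a : ℕ))⁻¹ := by
            rw [inv_mul_eq_iff_eq_mul, ← mul_assoc, ← h', mul_inv_cancel_right]
          rw [(Commute.pow_pow_self e (b : ℕ) (b' : ℕ)).inv_right.eq, h2]
          exact mul_mem (pow_mem (Subgroup.mem_zpowers z) _) (inv_mem (pow_mem (Subgroup.mem_zpowers z) _))
        have hco : IsCoprime ((b : ℤ) - b') (p : ℤ) := by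
          rw [isCoprime_comm, (Nat.prime_iff_prime_int.mp hp').coprime_iff_not_dvd]
          intro hd
          have h0 : ((b : ℤ) - b').natAbs < p := by have := b.2; have := b'.2; omega
          have := Int.eq_zero_of_dvd_of_natAbs_lt_natAbs hd (by simpa using h0)
          exact hne (Fin.ext (by omega))
        obtain ⟨u, v, huv⟩ := hco
        have : e = (e ^ ((b : ℤ) - b')) ^ u * (e ^ (p : ℤ)) ^ v := by
          rw [← zpow_mul, ← zpow_mul, ← zpow_add, mul_comm _ u, mul_comm _ v, huv, zpow_one]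
        rw [this, zpow_natCast, hep, one_zpow, mul_one]
        exact zpow_mem hk u
      subst hb
      refine Prod.ext rfl (Fin.ext ?_)
      have hinj' := (pow_injOn_Iio_orderOf (x := z)) (show (a : ℕ) ∈ Set.Iio (orderOf z) by rw [hzord]; exact a.2)
        (show (a' : ℕ) ∈ Set.Iio (orderOf z) by rw [hzord]; exact a'.2)
      exact hinj' (mul_left_cancel h')
    intro w hw
    have hbij := (Nat.bijective_iff_injective_and_card f).mpr ⟨hfi, by
      rw [Nat.card_prod, Nat.card_fin, hEcard, sq]⟩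
    obtain ⟨⟨b, a⟩, h⟩ := hbij.2 ⟨w, hw⟩
    exact ⟨b, a, (congrArg Subtype.val h).symm⟩
  -- the operators
  set E' : AddMonoid.End A := ρ e
  set Z' : AddMonoid.End A := ρ z
  have hEp' : E' ^ p = 1 := by rw [← map_pow, hep, map_one]
  have hZp : Z' ^ p = 1 := by rw [← map_pow, hzp, map_one]
  have hEZ : Commute E' Z' := hcomm.map ρ
  let N : ZMod p → AddMonoid.End A := cycSum p E' Z'
  haveI : NeZero p := ⟨hp'.ne_zero⟩
  have hS : ∑ j : Fin p, Z' ^ (j : ℕ) = 0 := by
    ext a
    apply hcent z hzZ hz1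
    show Z' ((∑ j : Fin p, Z' ^ (j : ℕ) : AddMonoid.End A) a) = _
    have : Z' * ∑ j : Fin p, Z' ^ (j : ℕ) = ∑ j : Fin p, Z' ^ (j : ℕ) := by
      have h := mul_cycSum (e := (1 : AddMonoid.End A)) (z := Z') (one_pow p) hZp (Commute.one_left _) (1 : ZMod p)
      haveI : Fact (1 < p) := ⟨hp'.one_lt⟩
      simpa [cycSum, ZMod.val_one] using h
    exact DFunLike.congr_fun this a
  have hN : ∑ i, N i = (p : AddMonoid.End A) := cycSum_sum hEZ hZp hS
  have hfixN : ∀ i a, ρ (e * z ^ i.val) (N i a) = N i a := by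
    intro i a
    rw [map_mul, map_pow]
    exact DFunLike.congr_fun (mul_cycSum hEp' hZp hEZ i) a
  have hNN : ∀ i k, i ≠ k → ∀ a, N i (N k a) = 0 := by
    intro i k hik a
    have h1 := hfixN i (N k a)
    have hsw : N i (N k a) = N k (N i a) := DFunLike.congr_fun (cycSum_commute hEZ i k).eq a
    have h2 : ρ (e * z ^ k.val) (N i (N k a)) = N i (N k a) := by
      rw [hsw]; exact hfixN k (N i a)
    set b := N i (N k a)
    have h3 : ρ ((e * z ^ k.val)⁻¹ * (e * z ^ i.val)) b = b := by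
      rw [hρm, h1]
      conv_lhs => rw [← h2, ← hρm, inv_mul_cancel, hρ1]
    rw [mul_inv_rev, mul_assoc, inv_mul_cancel_left] at h3
    refine hcent _ (mul_mem (inv_mem (pow_mem hzZ _)) (pow_mem hzZ _)) ?_ b h3
    rw [Ne, inv_mul_eq_one]
    intro he
    have hinj' := (pow_injOn_Iio_orderOf (x := z)) (show k.val ∈ Set.Iio (orderOf z) by rw [hzord]; exact k.val_lt)
      (show i.val ∈ Set.Iio (orderOf z) by rw [hzord]; exact i.val_lt)
    exact hik (ZMod.val_injective p (hinj' he).symm)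
  have hp0 : ∀ a : A, (∀ i, N i a = 0) → a = 0 := by
    intro a ha
    apply eq_zero_of_nsmul hA
    have := DFunLike.congr_fun hN a
    rw [end_sum_apply, Finset.sum_eq_zero (fun i _ => ha i)] at this
    exact ((AddMonoid.End.natCast_apply p a).symm.trans this.symm)
  have hNsq : ∀ i a, N i (N i a) = p • N i a := by
    intro i a
    have h1 := DFunLike.congr_fun hN (N i a)
    rw [end_sum_apply, Finset.sum_eq_single i (fun k _ hk => hNN k i hk a)
      (fun h => absurd (Finset.mem_univ i) h)] at h1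
    exact h1.trans (AddMonoid.End.natCast_apply p _)
  -- `e` is not central
  have hencent : e ∉ Subgroup.center P := by
    intro hec
    obtain ⟨a, ha⟩ := exists_ne (0 : A)
    apply ha
    apply hp0
    intro i
    refine hcent _ (mul_mem hec (pow_mem hzZ _)) ?_ _ (hfixN i a)
    intro h
    apply hez
    rw [eq_inv_of_mul_eq_one_left h]
    exact inv_mem (pow_mem (Subgroup.mem_zpowers z) _)
  -- generators shift the index
  have hshift : ∀ g : P, ∃ s : ZMod p, g * e * g⁻¹ = e * z ^ s.val := by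
    intro g
    obtain ⟨b, a, hba⟩ := hrep _ (hEn.conj_mem e heE g)
    have hiter : ∀ m : ℕ, ∃ a' : ℕ, g ^ m * e * (g ^ m)⁻¹ = e ^ ((b : ℕ) ^ m) * z ^ a' := by
      intro m
      induction m with
      | zero => exact ⟨0, by simp⟩
      | succ m ih =>
        obtain ⟨a', ha'⟩ := ih
        refine ⟨(a : ℕ) * (b : ℕ) ^ m + a', ?_⟩
        have hgz : g * z * g⁻¹ = z := by rw [Subgroup.mem_center_iff.mp hzZ g, mul_inv_cancel_right]
        calc g ^ (m + 1) * e * (g ^ (m + 1))⁻¹ = g * (g ^ m * e * (g ^ m)⁻¹) * g⁻¹ := by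
              rw [pow_succ']; group
          _ = (g * e * g⁻¹) ^ ((b : ℕ) ^ m) * (g * z * g⁻¹) ^ a' := by
              rw [ha', conj_pow, conj_pow]; group
          _ = _ := by
              rw [hba, hgz, ((hcomm.pow_pow _ _)).mul_pow, ← pow_mul, ← pow_mul, mul_assoc, ← pow_add,
                ← pow_succ']
    obtain ⟨k, hk⟩ := hP g
    obtain ⟨a', ha'⟩ := hiter (p ^ k)
    rw [hk, one_mul, inv_one, mul_one] at ha'
    have hb1 : ((b : ℕ) : ZMod p) = 1 := by
      by_contra hne
      apply hez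
      have hm : e ^ ((((b : ℕ) ^ p ^ k : ℕ) : ℤ) - 1) ∈ Subgroup.zpowers z := by
        have h2 : e ^ ((b : ℕ) ^ p ^ k) = e * (z ^ a')⁻¹ := eq_mul_inv_of_mul_eq ha'.symm
        rw [zpow_sub_one, zpow_natCast, h2, (hcomm.pow_right a').inv_right.eq, mul_inv_cancel_right]
        exact inv_mem (pow_mem (Subgroup.mem_zpowers z) _)
      have hco : IsCoprime ((((b : ℕ) ^ p ^ k : ℕ) : ℤ) - 1) (p : ℤ) := by
        rw [isCoprime_comm, (Nat.prime_iff_prime_int.mp hp').coprime_iff_not_dvd,
          ← ZMod.intCast_zmod_eq_zero_iff_dvd]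
        push_cast
        rw [ZMod.pow_card_pow, sub_eq_zero]
        exact hne
      obtain ⟨u, v, huv⟩ := hco
      have : e = (e ^ ((((b : ℕ) ^ p ^ k : ℕ) : ℤ) - 1)) ^ u * (e ^ (p : ℤ)) ^ v := by
        rw [← zpow_mul, ← zpow_mul, ← zpow_add, mul_comm _ u, mul_comm _ v, huv, zpow_one]
      rw [this, zpow_natCast, hep, one_zpow, mul_one]
      exact zpow_mem hm u
    have hb' : (b : ℕ) = 1 := by
      haveI : Fact (1 < p) := ⟨hp'.one_lt⟩
      have := congrArg ZMod.val hb1
      rwa [ZMod.val_natCast_of_lt b.2, ZMod.val_one] at this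
    refine ⟨((a : ℕ) : ZMod p), ?_⟩
    rw [hba, hb', pow_one, ZMod.val_natCast_of_lt a.2]
  have hsel : ∀ X : Set P, Subgroup.closure X = ⊤ → ∃ g ∈ X, ∀ s : ZMod p, g * e * g⁻¹ = e * z ^ s.val → s ≠ 0 := by
    intro X hX
    by_contra hcon
    push Not at hcon
    apply hencent
    rw [Subgroup.mem_center_iff]
    intro g
    have hmem : g ∈ Subgroup.centralizer ({e} : Set P) := by
      have hle : Subgroup.closure X ≤ Subgroup.centralizer ({e} : Set P) := by
        rw [Subgroup.closure_le]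
        intro x hx
        obtain ⟨s, hs, rfl⟩ := hcon x hx
        rw [ZMod.val_zero, pow_zero, mul_one, mul_inv_eq_iff_eq_mul] at hs
        exact Subgroup.mem_centralizer_singleton_iff.mpr hs
      exact hle (hX ▸ Subgroup.mem_top g)
    exact Subgroup.mem_centralizer_singleton_iff.mp hmem
  -- conjugation permutes the sums
  have hconjN : ∀ (g : P) (s : ZMod p), g * e * g⁻¹ = e * z ^ s.val → ∀ i a, ρ g (N i a) = N (i + s) (ρ g a) := by
    intro g s hs i a
    have hgz : g * z = z * g := Subgroup.mem_center_iff.mp hzZ g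
    have h1 : ρ g * (E' * Z' ^ i.val) = (E' * Z' ^ (i + s).val) * ρ g := by
      rw [← map_pow, ← map_pow, ← map_mul, ← map_mul, ← map_mul, ← map_mul, add_comm i s,
        pow_val_add hzp]
      congr 1
      rw [mul_inv_eq_iff_eq_mul.mp hs |> fun h => (by rw [← mul_assoc, h] : g * (e * z ^ i.val) = e * z ^ s.val * g * z ^ i.val),
        mul_assoc _ g, (Commute.pow_right hgz i.val).eq]
      simp only [mul_assoc]
    have h2 : ρ g * N i = N (i + s) * ρ g := by
      show ρ g * ∑ j : Fin p, _ = (∑ j : Fin p, _) * ρ g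
      rw [Finset.mul_sum, Finset.sum_mul]
      refine Finset.sum_congr rfl fun j _ => ?_
      exact SemiconjBy.pow_right h1 j
    exact DFunLike.congr_fun h2 a
  let W : ZMod p → AddSubgroup A := fun i => AddMonoidHom.range (N i : A →+ A)
  -- fixed points embed in one piece
  have hfix : ∀ g : P, ∀ s : ZMod p, s ≠ 0 → g * e * g⁻¹ = e * z ^ s.val →
      Nat.card {a : A // ρ g a = a} ≤ Nat.card (W 0) := by
    intro g s hs0 hs
    refine Nat.card_le_card_of_injective (fun a => (⟨N 0 a.1, a.1, rfl⟩ : W 0)) ?_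
    rintro ⟨a, ha⟩ ⟨b, hb⟩ hab
    have hab' : N 0 (a - b) = 0 := by
      rw [map_sub, sub_eq_zero]
      exact congrArg Subtype.val hab
    have hd : ρ g (a - b) = a - b := by rw [map_sub, ha, hb]
    apply Subtype.ext
    apply sub_eq_zero.mp
    apply hp0
    have hm : ∀ m : ℕ, N ((m : ZMod p) * s) (a - b) = 0 := by
      intro m
      induction m with
      | zero => rw [Nat.cast_zero, zero_mul]; exact hab'
      | succ m ih =>
        have := hconjN g s hs ((m : ZMod p) * s) (a - b)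
        rw [ih, map_zero, hd] at this
        rw [Nat.cast_succ, add_one_mul]
        exact this.symm
    intro i
    have := hm (i * s⁻¹).val
    rwa [ZMod.natCast_zmod_val, mul_assoc, inv_mul_cancel₀ hs0, mul_one] at this
  obtain ⟨c, hc, hcs⟩ := hsel C hC
  obtain ⟨d, hd, hds⟩ := hsel D hD
  obtain ⟨s, hs⟩ := hshift c
  obtain ⟨t, ht⟩ := hshift d
  have hWeq : ∀ i, Nat.card (W i) = Nat.card (W 0) := by
    have hstep : ∀ i, Nat.card (W (i + s)) = Nat.card (W i) := by
      intro i
      refine (Nat.card_congr (Equiv.ofBijective (fun w : W i => (⟨ρ c w.1, by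
        obtain ⟨a, ha⟩ := w.2
        exact ⟨ρ c a, by rw [← ha]; exact (hconjN c s hs i a).symm⟩⟩ : W (i + s))) ⟨?_, ?_⟩)).symm
      · intro u v huv
        apply Subtype.ext
        have := congrArg (fun w : W (i + s) => ρ c⁻¹ w.1) huv
        simpa [← hρm, hρ1] using this
      · rintro ⟨_, a, rfl⟩
        refine ⟨⟨N i (ρ c⁻¹ a), ρ c⁻¹ a, rfl⟩, Subtype.ext ?_⟩
        show ρ c (N i (ρ c⁻¹ a)) = N (i + s) a
        rw [hconjN c s hs, ← hρm, mul_inv_cancel, hρ1]
    have hm : ∀ m : ℕ, Nat.card (W ((m : ZMod p) * s)) = Nat.card (W 0) := by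
      intro m
      induction m with
      | zero => rw [Nat.cast_zero, zero_mul]
      | succ m ih => rw [Nat.cast_succ, add_one_mul, hstep, ih]
    intro i
    have := hm (i * s⁻¹).val
    rwa [ZMod.natCast_zmod_val, mul_assoc, inv_mul_cancel₀ (hcs s hs), mul_one] at this
  have hup : Nat.card A ≤ Nat.card (W 0) * Nat.card (W 0) := by
    refine le_trans ?_ (Nat.mul_le_mul (hfix c s (hcs s hs) hs) (hfix d t (hds t ht) ht))
    rw [← Nat.card_prod]
    refine Nat.card_le_card_of_surjective (fun xy => (xy.1.1 + xy.2.1 : A)) fun a => ?_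
    obtain ⟨x, y, hx, hy, rfl⟩ := hsum c hc d hd a
    exact ⟨(⟨x, hx⟩, ⟨y, hy⟩), rfl⟩
  have h2ne : (2 : ZMod p) ≠ 0 := by
    intro h
    have : p ∣ 2 := (ZMod.natCast_eq_zero_iff 2 p).mp (by exact_mod_cast h)
    exact hp ((Nat.prime_dvd_prime_iff_eq hp' Nat.prime_two).mp this)
  have h12 : (1 : ZMod p) ≠ 2 := fun h => one_ne_zero (α := ZMod p) (by linear_combination -h)
  have hlow : Nat.card (W 0) * Nat.card (W 1) * Nat.card (W 2) ≤ Nat.card A := by
    rw [← Nat.card_prod, ← Nat.card_prod]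
    refine Nat.card_le_card_of_injective (fun uvw => (uvw.1.1.1 + uvw.1.2.1 + uvw.2.1 : A)) ?_
    have key : ∀ (i : ZMod p) (u : A), u ∈ W i → ∀ k, k ≠ i → N k u = 0 := by
      rintro i _ ⟨a, rfl⟩ k hk
      exact hNN k i hk a
    have key2 : ∀ (i : ZMod p) (u : A), u ∈ W i → N i u = p • u := by
      rintro i _ ⟨a, rfl⟩
      exact hNsq i a
    rintro ⟨⟨u, v⟩, w⟩ ⟨⟨u', v'⟩, w'⟩ h
    have h' : (u : A) + v + w = u' + v' + w' := h
    have eu : (u : A) = u' := by
      have := congrArg (N 0) h'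
      simp only [map_add, key2 0 _ u.2, key2 0 _ u'.2, key 1 _ v.2 0 zero_ne_one, key 1 _ v'.2 0 zero_ne_one,
        key 2 _ w.2 0 h2ne.symm, key 2 _ w'.2 0 h2ne.symm, add_zero] at this
      exact sub_eq_zero.mp (eq_zero_of_nsmul hA (by rw [smul_sub, this, sub_self]))
    have ev : (v : A) = v' := by
      have := congrArg (N 1) h'
      simp only [map_add, key2 1 _ v.2, key2 1 _ v'.2, key 0 _ u.2 1 one_ne_zero, key 0 _ u'.2 1 one_ne_zero,
        key 2 _ w.2 1 h12, key 2 _ w'.2 1 h12, add_zero, zero_add] at this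
      exact sub_eq_zero.mp (eq_zero_of_nsmul hA (by rw [smul_sub, this, sub_self]))
    have ew : (w : A) = w' := by
      rw [eu, ev] at h'
      exact add_left_cancel h'
    exact Prod.ext (Prod.ext (Subtype.ext eu) (Subtype.ext ev)) (Subtype.ext ew)
  rw [hWeq 1, hWeq 2] at hlow
  have hW0 : Nat.card (W 0) = 1 := by
    have hpos : 0 < Nat.card (W 0) := Nat.card_pos
    by_contra hne
    have h2 : 2 ≤ Nat.card (W 0) := by omega
    have := hlow.trans hup
    nlinarith [Nat.mul_le_mul_right (Nat.card (W 0) * Nat.card (W 0)) h2]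
  obtain ⟨a, ha⟩ := exists_ne (0 : A)
  apply ha
  apply hp0
  intro i
  have h1 : W i = ⊥ := AddSubgroup.eq_bot_of_card_eq _ ((hWeq i).trans hW0)
  have : N i a ∈ W i := ⟨a, rfl⟩
  rw [h1] at this
  exact this

end CfsgLib.GeneratedPairs
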