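/-
A p-group, p odd, generated by two sets that pairwise generate p-groups after any twist centralizes.
-/
import Mathlib
import Cfsg.Agent.Lib.Coprime
import Cfsg.Agent.Lib.KnownSimple.GeneratedPairs

set_option linter.unusedSectionVars false
set_option linter.style.haveILetI false

namespace CfsgLib.GeneratedPairs

open Subgroup
open scoped Pointwise commutatorElement

variable {G : Type*} [Group G] [Finite G] {p : ℕ} [Fact p.Prime]

theorem eq_one_of_mem_both {P K : Subgroup G} (hdis : Disjoint P K) (hPK : P ≤ normalizer (K : Set G))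
    {n d : G} (hn : n ∈ K) (hd : d ∈ P) (h : n * d * n⁻¹ ∈ P) : Commute n d := by
  have h1 : n * d * n⁻¹ * d⁻¹ ∈ P := mul_mem h (inv_mem hd)
  have h2 : n * d * n⁻¹ * d⁻¹ ∈ K := by
    have := mul_mem hn ((mem_normalizer_iff.mp (hPK hd) n⁻¹).mp (inv_mem hn))
    simpa [mul_assoc] using this
  have h3 := disjoint_def.mp hdis h1 h2
  exact mul_inv_eq_iff_eq_mul.mp (mul_inv_eq_one.mp h3)

/-- The factorization forced by the pair condition. -/
theorem exists_factor {P K : Subgroup G} (hP : IsPGroup p P) (hPK : P ≤ normalizer (K : Set G))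
    (hK : (Nat.card K).Coprime p) {x c d : G} (hx : x ∈ K) (hc : c ∈ P) (hd : d ∈ P)
    (hH : IsPGroup p (closure ({x * c * x⁻¹, d} : Set G))) :
    ∃ a ∈ K, ∃ b ∈ K, Commute a d ∧ Commute b c ∧ x = a * b := by
  have hco : (Nat.card P).Coprime (Nat.card K) := by
    obtain ⟨n, hn⟩ := IsPGroup.iff_card.mp hP
    rw [hn]
    exact (Nat.Coprime.pow_left n hK.symm)
  have hdis : Disjoint P K := disjoint_of_coprime_natCard hco
  set L := K ⊔ P
  set H := closure ({x * c * x⁻¹, d} : Set G)
  have hHL : H ≤ L := by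
    rw [closure_le]
    rintro y (rfl | rfl)
    · exact mul_mem (mul_mem (mem_sup_left hx) (mem_sup_right hc)) (inv_mem (mem_sup_left hx))
    · exact mem_sup_right hd
  have hPL : IsPGroup p (P.subgroupOf L) := hP.comap_subtype
  have hidx : ¬ p ∣ (P.subgroupOf L).index := by
    intro hdvd
    have hprod : Nat.card L ∣ Nat.card K * Nat.card P := by
      have hcard : Nat.card L = Nat.card K * Nat.card P := by
        rw [← Nat.card_prod]
        refine (Nat.card_congr (Equiv.ofBijective (fun u : K × P => (⟨u.1 * u.2, mul_mem (mem_sup_left u.1.2) (mem_sup_right u.2.2)⟩ : L)) ⟨?_, ?_⟩)).symm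
        · exact fun u v h => mul_injective_of_disjoint hdis.symm (congrArg Subtype.val h)
        · intro y
          obtain ⟨w, hw, a, ha, hwa⟩ := CfsgLib.mem_sup_of_le_normalizer hPK y.2
          exact ⟨(⟨w, hw⟩, ⟨a, ha⟩), Subtype.ext (show w * a = (y : G) from hwa)⟩
      exact hcard.dvd
    have h1 := card_mul_index (P.subgroupOf L)
    rw [Nat.card_congr (subgroupOfEquivOfLe (le_sup_right : P ≤ L)).toEquiv] at h1
    have h2 : (P.subgroupOf L).index ∣ Nat.card K := by
      rw [← h1, mul_comm (Nat.card K)] at hprod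
      exact Nat.dvd_of_mul_dvd_mul_left Nat.card_pos hprod
    exact (Fact.out : p.Prime).one_lt.ne' (Nat.eq_one_of_dvd_coprimes hK (hdvd.trans h2) dvd_rfl)
  obtain ⟨S, hS⟩ := IsPGroup.exists_le_sylow (P := H.subgroupOf L) hH.comap_subtype
  obtain ⟨g, hg⟩ := MulAction.exists_smul_eq L S (hPL.toSylow hidx)
  obtain ⟨w, hw, a, ha, hwa⟩ := CfsgLib.mem_sup_of_le_normalizer hPK (g⁻¹).2
  have hkey : ∀ y ∈ H, w⁻¹ * y * w ∈ P := by
    intro y hy
    have h1 : g * (⟨y, hHL hy⟩ : L) * g⁻¹ ∈ ((g • S : Sylow p L) : Subgroup L) :=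
      ⟨⟨y, hHL hy⟩, hS hy, rfl⟩
    rw [hg] at h1
    have h2 : (g : G) * y * (g : G)⁻¹ ∈ P := h1
    have hg' : (g : G) = a⁻¹ * w⁻¹ := by
      rw [← mul_inv_rev, hwa, Subgroup.coe_inv, inv_inv]
    rw [hg'] at h2
    have h3 := mul_mem (mul_mem ha h2) (inv_mem ha)
    simpa [mul_assoc] using h3
  have hnd : Commute w⁻¹ d := by
    refine eq_one_of_mem_both hdis hPK (inv_mem hw) hd ?_
    simpa using hkey d (subset_closure (Or.inr rfl))
  have hnc : Commute (w⁻¹ * x) c := by
    refine eq_one_of_mem_both hdis hPK (mul_mem (inv_mem hw) hx) hc ?_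
    simpa [mul_assoc] using hkey _ (subset_closure (Or.inl rfl))
  exact ⟨w, hw, w⁻¹ * x, mul_mem (inv_mem hw) hx, by simpa using hnd.inv_left, hnc, (mul_inv_cancel_left w x).symm⟩

set_option maxHeartbeats 1000000 in
theorem commutator_eq_bot_of_pairs (hp : p ≠ 2) {P : Subgroup G} (hP : IsPGroup p P) {C D : Set G}
    (hC : closure C = P) (hD : closure D = P) (K : Subgroup G) (hPK : P ≤ normalizer (K : Set G))
    (hK : (Nat.card K).Coprime p)
    (h : ∀ x ∈ K, ∀ c ∈ C, ∀ d ∈ D, IsPGroup p (closure ({x * c * x⁻¹, d} : Set G))) :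
    ⁅K, P⁆ = ⊥ := by
  classical
  induction hn : Nat.card K using Nat.strong_induction_on generalizing K with
  | _ n ih =>
  subst hn
  have IH : ∀ M : Subgroup G, M ≤ K → M ≠ K → P ≤ normalizer (M : Set G) → ⁅M, P⁆ = ⊥ := by
    intro M hMK hne hPM
    refine ih (Nat.card M) ?_ M hPM (hK.coprime_dvd_left (card_dvd_of_le hMK))
      (fun x hx => h x (hMK hx)) rfl
    by_contra hlt
    exact hne (eq_of_le_of_card_ge hMK (not_lt.mp hlt))
  have hco : (Nat.card P).Coprime (Nat.card K) := by
    obtain ⟨m, hm⟩ := IsPGroup.iff_card.mp hP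
    rw [hm]
    exact Nat.Coprime.pow_left m hK.symm
  haveI : Group.IsNilpotent P := hP.isNilpotent
  have hsol : Group.IsSolvable P ∨ Group.IsSolvable K := Or.inl inferInstance
  by_cases hq : ∃ q, q.Prime ∧ IsPGroup q K
  swap
  · suffices hle : K ≤ centralizer (P : Set G) from commutator_eq_bot_iff_le_centralizer.mpr hle
    suffices hall : Nat.card K ∣ Nat.card (K ⊓ centralizer (P : Set G) : Subgroup G) by
      intro x hx
      have := eq_of_le_of_card_ge (inf_le_left : K ⊓ centralizer (P : Set G) ≤ K) (Nat.le_of_dvd Nat.card_pos hall)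
      rw [← this] at hx
      exact hx.2
    rw [Nat.dvd_iff_prime_pow_dvd_dvd]
    intro q k hqp hdvd
    haveI := Fact.mk hqp
    obtain ⟨S, hS⟩ := CfsgLib.coprime_exists_invariant_sylow hPK hco hsol q
    have hle : (S : Subgroup K).map K.subtype ≤ K := map_subtype_le _
    have hne : (S : Subgroup K).map K.subtype ≠ K := by
      intro he
      refine hq ⟨q, hqp, ?_⟩
      have := S.isPGroup'.map K.subtype
      exact this.of_equiv (MulEquiv.subgroupCongr he)
    have hz := commutator_eq_bot_iff_le_centralizer.mp (IH _ hle hne hS)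
    refine dvd_trans ?_ (card_dvd_of_le (le_inf hle hz))
    rw [card_map_of_injective K.subtype_injective]
    exact S.pow_dvd_card_of_pow_dvd_card hdvd
  obtain ⟨q, hqp, hKq⟩ := hq
  haveI := Fact.mk hqp
  by_cases hL : ⁅K, P⁆ = K
  swap
  · have h1 := IH _ (CfsgLib.commutator_le_of_le_normalizer hPK) hL (CfsgLib.right_le_normalizer_commutator P K)
    rwa [CfsgLib.coprime_commutator_commutator hPK hco hsol] at h1
  by_contra hne
  rw [hL] at hne
  haveI : Nontrivial K := (nontrivial_iff_ne_bot K).mpr hne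
  have hder : ⁅K, K⁆ < K := by
    haveI : Group.IsNilpotent K := hKq.isNilpotent
    refine lt_of_le_of_ne ((commutator_le).mpr fun a ha b hb => by
      rw [commutatorElement_def]
      exact mul_mem (mul_mem (mul_mem ha hb) (inv_mem ha)) (inv_mem hb)) fun he => ?_
    have hlt : ⁅(⊤ : Subgroup K), (⊤ : Subgroup K)⁆ < ⊤ := IsSolvable.commutator_lt_top_of_nontrivial K
    apply hlt.ne
    apply map_injective K.subtype_injective
    rw [map_commutator, ← MonoidHom.range_eq_map, range_subtype, he]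
  obtain ⟨M, ⟨hdM, hMK, hPM⟩, hmax⟩ := (Set.toFinite {M : Subgroup G |
    ⁅K, K⁆ ≤ M ∧ M < K ∧ P ≤ normalizer (M : Set G)}).exists_maximal ⟨⁅K, K⁆, le_rfl, hder, fun g hg => by
      rw [mem_normalizer_iff_map_conj_eq]
      have hgK : K.map (MulAut.conj g).toMonoidHom = K := mem_normalizer_iff_map_conj_eq.mp (hPK hg)
      exact (map_commutator K K _).trans (congrArg₂ (fun A B : Subgroup G => ⁅A, B⁆) hgK hgK)⟩
  let M' := M.subgroupOf K
  haveI hM' : M'.Normal := ⟨fun a ha b => by
    show (b : G) * a * (b : G)⁻¹ ∈ M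
    have hc := hdM (commutator_mem_commutator b.2 a.2)
    have := mul_mem hc (show (a : G) ∈ M from ha)
    simpa [commutatorElement_def, mul_assoc] using this⟩
  let Q := K ⧸ M'
  letI : CommGroup Q :=
    { (inferInstance : Group Q) with
      mul_comm := fun u v => by
        induction u using QuotientGroup.induction_on with
        | _ a =>
          induction v using QuotientGroup.induction_on with
          | _ b =>
            show ((a * b : K) : Q) = ((b * a : K) : Q)
            rw [QuotientGroup.eq]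
            show ((a * b)⁻¹ * (b * a) : G) ∈ M
            have := hdM (commutator_mem_commutator (inv_mem b.2) (inv_mem a.2))
            simpa [commutatorElement_def, mul_assoc] using this }
  let φ : P → (K →* K) := fun g =>
    { toFun := fun x => ⟨g * x * (g : G)⁻¹, (mem_normalizer_iff.mp (hPK g.2) x).mp x.2⟩
      map_one' := Subtype.ext (by simp)
      map_mul' := fun a b => Subtype.ext (by simp [mul_assoc]) }
  have hφ : ∀ g : P, M' ≤ M'.comap (φ g) := fun g a ha => (mem_normalizer_iff.mp (hPM g.2) a).mp ha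
  obtain ⟨ρ0, hρ⟩ : ∃ ρ0 : P →* AddMonoid.End (Additive Q), ∀ (g : P) (a : K),
      ρ0 g (Additive.ofMul (a : Q)) = Additive.ofMul ((φ g a : K) : Q) := ⟨
    { toFun := fun g => MonoidHom.toAdditive (QuotientGroup.map M' M' (φ g) (hφ g))
      map_one' := by
        refine DFunLike.ext _ _ fun u => ?_
        obtain ⟨a, rfl⟩ := Additive.ofMul.surjective u
        induction a using QuotientGroup.induction_on with
        | _ a =>
          show Additive.ofMul ((φ 1 a : K) : Q) = Additive.ofMul (a : Q)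
          rw [show φ 1 a = a from Subtype.ext (by simp [φ])]
      map_mul' := fun g k => by
        refine DFunLike.ext _ _ fun u => ?_
        obtain ⟨a, rfl⟩ := Additive.ofMul.surjective u
        induction a using QuotientGroup.induction_on with
        | _ a =>
          show Additive.ofMul ((φ (g * k) a : K) : Q) = Additive.ofMul ((φ g (φ k a) : K) : Q)
          rw [show φ (g * k) a = φ g (φ k a) from Subtype.ext (by simp [φ, mul_assoc])] }, fun g a => rfl⟩
  have hnt : ρ0.ker ≠ ⊤ := by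
    intro ht
    refine hMK.not_ge (le_trans hL.ge ((commutator_le).mpr fun x hx g hg => ?_))
    have h1 : ρ0 ⟨g, hg⟩ = 1 := MonoidHom.mem_ker.mp (ht ▸ mem_top _)
    have h2 : ((φ ⟨g, hg⟩ ⟨x, hx⟩ : K) : Q) = ((⟨x, hx⟩ : K) : Q) := by
      have := DFunLike.congr_fun h1 (Additive.ofMul ((⟨x, hx⟩ : K) : Q))
      rw [hρ] at this
      exact Additive.ofMul.injective this
    have hmn := hM'.mem_comm (QuotientGroup.eq.mp h2)
    have h3 : x * (g * x * g⁻¹)⁻¹ ∈ M := hmn
    simpa [commutatorElement_def, mul_assoc] using h3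
  haveI : Nontrivial (P ⧸ ρ0.ker) := QuotientGroup.nontrivial_iff.mpr hnt
  haveI : Nontrivial (Additive Q) := by
    haveI : Nontrivial Q := QuotientGroup.nontrivial_iff.mpr fun ht => hMK.not_ge (subgroupOf_eq_top.mp ht)
    exact Additive.ofMul.symm.nontrivial
  have hgen : ∀ X : Set G, closure X = P → closure (QuotientGroup.mk' ρ0.ker '' ((↑) ⁻¹' X : Set P)) = ⊤ := by
    intro X hX
    have hsub : X ⊆ P := hX ▸ subset_closure
    have h1 : closure ((↑) ⁻¹' X : Set P) = ⊤ := by
      apply map_injective P.subtype_injective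
      rw [MonoidHom.map_closure, ← MonoidHom.range_eq_map, range_subtype]
      have : P.subtype '' ((↑) ⁻¹' X : Set P) = X := by
        ext y
        exact ⟨fun ⟨z, hz, hzy⟩ => hzy ▸ hz, fun hy => ⟨⟨y, hsub hy⟩, hy, rfl⟩⟩
      rw [this, hX]
    rw [← MonoidHom.map_closure, h1, ← MonoidHom.range_eq_map, QuotientGroup.range_mk']
  refine false_of_irreducible (A := Additive Q) hp (hP.to_quotient ρ0.ker) ?_ (QuotientGroup.lift ρ0.ker ρ0 le_rfl)
    ((injective_iff_map_eq_one _).mpr fun u => QuotientGroup.induction_on u fun g hg =>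
      (QuotientGroup.eq_one_iff g).mpr (MonoidHom.mem_ker.mpr hg)) ?_ _ _ (hgen C hC) (hgen D hD) ?_
  · exact hK.coprime_dvd_left ((Nat.card_congr Additive.toMul).dvd.trans (card_quotient_dvd_card M'))
  · intro U hU
    let V : Subgroup G := ((AddSubgroup.toSubgroup' U).comap (QuotientGroup.mk' M')).map K.subtype
    have hVK : V ≤ K := map_subtype_le _
    have hMV : M ≤ V := fun x hx => ⟨⟨x, hMK.le hx⟩, by
      show Additive.ofMul ((⟨x, hMK.le hx⟩ : K) : Q) ∈ U
      rw [(QuotientGroup.eq_one_iff (N := M') (⟨x, hMK.le hx⟩ : K)).mpr hx]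
      exact U.zero_mem, rfl⟩
    have hPV : P ≤ normalizer (V : Set G) := by
      intro g hg
      have hle : ∀ g ∈ P, ∀ y ∈ V, g * y * g⁻¹ ∈ V := by
        rintro g hg _ ⟨a, ha, rfl⟩
        refine ⟨φ ⟨g, hg⟩ a, ?_, rfl⟩
        show Additive.ofMul ((φ ⟨g, hg⟩ a : K) : Q) ∈ U
        rw [← hρ]
        exact hU (QuotientGroup.mk ⟨g, hg⟩) _ ha
      refine mem_normalizer_iff.mpr fun y => ⟨hle g hg y, fun hy => ?_⟩
      simpa [mul_assoc] using hle _ (inv_mem hg) _ hy
    rcases eq_or_lt_of_le hVK with hV | hV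
    · right
      rw [eq_top_iff]
      rintro u -
      obtain ⟨a0, rfl⟩ := Additive.ofMul.surjective u
      obtain ⟨a, rfl⟩ : ∃ a : K, (a : Q) = a0 := QuotientGroup.mk_surjective a0
      obtain ⟨b, hb, hba⟩ := (hV.ge a.2 : (a : G) ∈ V)
      rwa [show b = a from Subtype.ext hba] at hb
    · left
      rw [eq_bot_iff]
      intro u hu
      obtain ⟨a, rfl⟩ := Additive.ofMul.surjective u
      induction a using QuotientGroup.induction_on with
      | _ a =>
        have ha : (a : G) ∈ V := ⟨a, hu, rfl⟩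
        have := hmax ⟨hdM.trans hMV, hV, hPV⟩ hMV ha
        rw [AddSubgroup.mem_bot, (QuotientGroup.eq_one_iff (N := M') a).mpr this]
        rfl
  · rintro _ ⟨c, hc, rfl⟩ _ ⟨d, hd, rfl⟩ u
    obtain ⟨x, rfl⟩ := Additive.ofMul.surjective u
    induction x using QuotientGroup.induction_on with
    | _ x =>
      obtain ⟨a, ha, b, hb, had, hbc, hxab⟩ := exists_factor hP hPK hK x.2 c.2 d.2 (h x x.2 c hc d hd)
      refine ⟨Additive.ofMul ((⟨b, hb⟩ : K) : Q), Additive.ofMul ((⟨a, ha⟩ : K) : Q), ?_, ?_, ?_⟩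
      · show ρ0 c _ = _
        rw [hρ, show φ c ⟨b, hb⟩ = (⟨b, hb⟩ : K) from Subtype.ext (by
          show (c : G) * b * (c : G)⁻¹ = b
          rw [← hbc.eq, mul_inv_cancel_right])]
      · show ρ0 d _ = _
        rw [hρ, show φ d ⟨a, ha⟩ = (⟨a, ha⟩ : K) from Subtype.ext (by
          show (d : G) * a * (d : G)⁻¹ = a
          rw [← had.eq, mul_inv_cancel_right])]
      · rw [show x = (⟨a, ha⟩ : K) * ⟨b, hb⟩ from Subtype.ext hxab]
        exact congrArg Additive.ofMul (mul_comm ((⟨a, ha⟩ : K) : Q) ((⟨b, hb⟩ : K) : Q))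

end CfsgLib.GeneratedPairs
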