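/-
Sylow 2-subgroups of PGL(2, q) for Mersenne primes q: they are centralizers of involutions and
any two of them share a nontrivial element.
-/
import Mathlib

namespace CfsgLib.MersennePGL

open Matrix
set_option linter.unusedSimpArgs false
open scoped Pointwise

variable {q : ℕ} [Fact q.Prime]

local notation "GG" => GL (Fin 2) (ZMod q) ⧸ Subgroup.center (GL (Fin 2) (ZMod q))
local notation "mq" => QuotientGroup.mk' (Subgroup.center (GL (Fin 2) (ZMod q)))

theorem neg_one_not_square (h4 : q % 4 = 3) (x : ZMod q) : x * x ≠ -1 := by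
  intro hx
  have : IsSquare (-1 : ZMod q) := ⟨x, hx.symm⟩
  rw [ZMod.exists_sq_eq_neg_one_iff] at this
  exact this h4

theorem sq_add_sq_eq_zero (h4 : q % 4 = 3) {a b : ZMod q} (h : a * a + b * b = 0) :
    a = 0 ∧ b = 0 := by
  by_cases hb : b = 0
  · subst hb
    simp at h
    exact ⟨h, rfl⟩
  · exfalso
    apply neg_one_not_square h4 (a / b)
    field_simp
    linear_combination h

/-- The matrix of a quarter turn. -/
def quarter : GL (Fin 2) (ZMod q) :=
  ⟨!![0, -1; 1, 0], !![0, 1; -1, 0],
    by ext i j; fin_cases i <;> fin_cases j <;> simp [Matrix.mul_apply, Fin.sum_univ_two],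
    by ext i j; fin_cases i <;> fin_cases j <;> simp [Matrix.mul_apply, Fin.sum_univ_two]⟩

@[simp] theorem quarter_val : ((quarter : GL (Fin 2) (ZMod q)) : Matrix (Fin 2) (Fin 2) (ZMod q)) =
    !![0, -1; 1, 0] := rfl

theorem commute_mq_iff (g A : GL (Fin 2) (ZMod q)) :
    mq g * mq A = mq A * mq g ↔
      ∃ t : ZMod q, (g : Matrix (Fin 2) (Fin 2) (ZMod q)) * A = t • ((A : Matrix (Fin 2) (Fin 2) (ZMod q)) * g) := by
  rw [← map_mul, ← map_mul]
  simp only [QuotientGroup.mk'_apply, QuotientGroup.eq,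
    Matrix.GeneralLinearGroup.mem_center_iff_val_mem_range_scalar]
  constructor
  · rintro ⟨t, ht⟩
    have hu : ((g * A) * ((g * A)⁻¹ * (A * g)) : GL (Fin 2) (ZMod q)) = A * g := by group
    have hu' := congrArg (fun u : GL (Fin 2) (ZMod q) => (u : Matrix (Fin 2) (Fin 2) (ZMod q))) hu
    simp only [Units.val_mul] at hu' ht
    rw [← ht] at hu'
    by_cases ht0 : t = 0
    · exfalso
      have hz : ((((g * A)⁻¹ * (A * g)) : GL (Fin 2) (ZMod q)) : Matrix (Fin 2) (Fin 2) (ZMod q)) = 0 := by
        rw [Units.val_mul, Units.val_mul, ← ht, ht0, map_zero]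
      exact Units.ne_zero _ hz
    · refine ⟨t⁻¹, ?_⟩
      rw [← hu']
      simp [Matrix.scalar_apply, ← Matrix.smul_one_eq_diagonal, smul_smul, ht0]
  · rintro ⟨t, ht⟩
    have ht0 : t ≠ 0 := by
      rintro rfl
      rw [zero_smul, ← Units.val_mul] at ht
      exact Units.ne_zero _ ht
    refine ⟨t⁻¹, ?_⟩
    have h1 : ((A : Matrix (Fin 2) (Fin 2) (ZMod q)) * g) = t⁻¹ • ((g : Matrix (Fin 2) (Fin 2) (ZMod q)) * A) := by
      rw [ht, smul_smul, inv_mul_cancel₀ ht0, one_smul]
    have hi : ((((g * A)⁻¹) : GL (Fin 2) (ZMod q)) : Matrix (Fin 2) (Fin 2) (ZMod q)) *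
        ((g : Matrix (Fin 2) (Fin 2) (ZMod q)) * A) = 1 := by
      rw [← Units.val_mul g A, ← Units.val_mul, inv_mul_cancel, Units.val_one]
    rw [Units.val_mul, Units.val_mul A g, h1, Matrix.mul_smul, hi]
    simp [Matrix.scalar_apply, Matrix.smul_one_eq_diagonal]

/-- Commuting with the quarter turn modulo scalars. -/
theorem mem_iff (h4 : q % 4 = 3) (g : GL (Fin 2) (ZMod q)) :
    mq g * mq quarter = mq quarter * mq g ↔
      ((g : Matrix (Fin 2) (Fin 2) (ZMod q)) 1 1 = g.val 0 0 ∧ g.val 0 1 = - g.val 1 0) ∨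
      ((g : Matrix (Fin 2) (Fin 2) (ZMod q)) 1 1 = - g.val 0 0 ∧ g.val 0 1 = g.val 1 0) := by
  rw [commute_mq_iff]
  constructor
  · rintro ⟨t, ht⟩
    have e00 := congrFun (congrFun ht 0) 0
    have e01 := congrFun (congrFun ht 0) 1
    have e10 := congrFun (congrFun ht 1) 0
    have e11 := congrFun (congrFun ht 1) 1
    simp [Matrix.mul_apply, Fin.sum_univ_two, Matrix.vecMul, dotProduct, Matrix.vecHead, Matrix.vecTail] at e00 e01 e10 e11
    have hdet : g.val.det ≠ 0 := by
      have : IsUnit g.val.det := (Matrix.isUnit_iff_isUnit_det _).mp g.isUnit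
      exact this.ne_zero
    rw [Matrix.det_fin_two] at hdet
    have ht1 : (t - 1) * (t + 1) = 0 := by
      have : (t * t - 1) * (g.val 0 0 * g.val 1 1 - g.val 0 1 * g.val 1 0) = 0 := by
        have ha : (t * t - 1) * g.val 0 0 = 0 := by linear_combination (-t) * e10 - e01
        have hb : (t * t - 1) * g.val 0 1 = 0 := by linear_combination -e00 - t * e11
        linear_combination g.val 1 1 * ha - g.val 1 0 * hb
      rcases mul_eq_zero.mp this with h | h
      · linear_combination h
      · exact absurd h hdet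
    rcases mul_eq_zero.mp ht1 with h | h
    · left
      have : t = 1 := by linear_combination h
      subst this
      simp at e00 e01 e10 e11
      constructor
      · linear_combination e10
      · linear_combination e00
    · right
      have : t = -1 := by linear_combination h
      subst this
      simp at e00 e01 e10 e11
      constructor
      · linear_combination e10
      · linear_combination e00
  · rintro (⟨h1, h2⟩ | ⟨h1, h2⟩)
    · refine ⟨1, ?_⟩
      ext i j
      fin_cases i <;> fin_cases j <;> simp [Matrix.mul_apply, Fin.sum_univ_two, Matrix.vecMul, dotProduct, Matrix.vecHead, Matrix.vecTail, h1, h2]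
    · refine ⟨-1, ?_⟩
      ext i j
      fin_cases i <;> fin_cases j <;> simp [Matrix.mul_apply, Fin.sum_univ_two, Matrix.vecMul, dotProduct, Matrix.vecHead, Matrix.vecTail, h1, h2]

variable (q) in
/-- The centralizer of the quarter turn in the projective group. -/
def quarterCentralizer : Subgroup GG := Subgroup.centralizer {mq quarter}

theorem mem_quarterCentralizer (h : GG) :
    h ∈ quarterCentralizer q ↔ h * mq quarter = mq quarter * h := by
  rw [quarterCentralizer, Subgroup.mem_centralizer_singleton_iff]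

/-- The preimage of the centralizer is parametrized by a nonzero pair and a sign. -/
noncomputable def param (h4 : q % 4 = 3) :
    ({p : ZMod q × ZMod q // p ≠ 0} × Bool) ≃ ((quarterCentralizer q).comap mq) := by
  haveI : NeZero (2 : ZMod q) := by
    refine ⟨fun h => ?_⟩
    have : (q : ℕ) ∣ 2 := (ZMod.natCast_eq_zero_iff 2 q).mp (by exact_mod_cast h)
    have := Nat.le_of_dvd (by norm_num) this
    omega
  let M : ({p : ZMod q × ZMod q // p ≠ 0} × Bool) → Matrix (Fin 2) (Fin 2) (ZMod q) := fun x =>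
    if x.2 then !![x.1.1.1, -x.1.1.2; x.1.1.2, x.1.1.1] else !![x.1.1.1, x.1.1.2; x.1.1.2, -x.1.1.1]
  have hM : ∀ x, (M x).det ≠ 0 := by
    rintro ⟨⟨⟨a, b⟩, hp⟩, s⟩ h
    have : a * a + b * b = 0 := by
      cases s <;> simp [M, Matrix.det_fin_two] at h
      · linear_combination -h
      · linear_combination h
    obtain ⟨rfl, rfl⟩ := sq_add_sq_eq_zero h4 this
    exact hp rfl
  let f : ({p : ZMod q × ZMod q // p ≠ 0} × Bool) → ((quarterCentralizer q).comap mq) := fun x =>
    ⟨Matrix.GeneralLinearGroup.mkOfDetNeZero (M x) (hM x), by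
      rw [Subgroup.mem_comap, mem_quarterCentralizer, mem_iff h4]
      rcases x with ⟨⟨⟨a, b⟩, hp⟩, s⟩
      cases s <;> simp [M]⟩
  refine Equiv.ofBijective f ⟨?_, ?_⟩
  · rintro ⟨⟨⟨a, b⟩, hp⟩, s⟩ ⟨⟨⟨a', b'⟩, hp'⟩, s'⟩ h
    have hm : ∀ i j, M ⟨⟨⟨a, b⟩, hp⟩, s⟩ i j = M ⟨⟨⟨a', b'⟩, hp'⟩, s'⟩ i j := by
      intro i j
      have := congrArg (fun u : ((quarterCentralizer q).comap mq) => (u.1 : Matrix (Fin 2) (Fin 2) (ZMod q)) i j) h
      simpa [f] using this
    have h00 := hm 0 0
    have h01 := hm 0 1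
    have h10 := hm 1 0
    have h11 := hm 1 1
    cases s <;> cases s' <;> simp [M] at h00 h01 h10 h11
    · simp [h00, h10]
    · exfalso
      subst h00 h10
      have ha : (2 : ZMod q) * a = 0 := by linear_combination -h11
      have hb : (2 : ZMod q) * b = 0 := by linear_combination h01
      simp [two_ne_zero] at ha hb
      exact hp (by simp [ha, hb])
    · exfalso
      subst h00 h10
      have ha : (2 : ZMod q) * a = 0 := by linear_combination h11
      have hb : (2 : ZMod q) * b = 0 := by linear_combination -h01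
      simp [two_ne_zero] at ha hb
      exact hp (by simp [ha, hb])
    · simp [h00, h10]
  · rintro ⟨g, hg⟩
    rw [Subgroup.mem_comap, mem_quarterCentralizer, mem_iff h4] at hg
    have hp : ((g.val 0 0, g.val 1 0) : ZMod q × ZMod q) ≠ 0 := by
      intro h
      simp [Prod.ext_iff] at h
      have hdet : IsUnit g.val.det := (Matrix.isUnit_iff_isUnit_det _).mp g.isUnit
      rw [Matrix.det_fin_two, h.1, h.2] at hdet
      simp at hdet
    rcases hg with ⟨h1, h2⟩ | ⟨h1, h2⟩
    · refine ⟨⟨⟨_, hp⟩, true⟩, ?_⟩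
      apply Subtype.ext
      apply Units.ext
      ext i j
      fin_cases i <;> fin_cases j <;> simp [f, M, h1, h2]
    · refine ⟨⟨⟨_, hp⟩, false⟩, ?_⟩
      apply Subtype.ext
      apply Units.ext
      ext i j
      fin_cases i <;> fin_cases j <;> simp [f, M, h1, h2]

theorem card_GG : Nat.card GG = q * (q ^ 2 - 1) := by
  have hq := (Fact.out : q.Prime).two_le
  have h1 := Subgroup.card_eq_card_quotient_mul_card_subgroup (Subgroup.center (GL (Fin 2) (ZMod q)))
  have h2 : Nat.card (Subgroup.center (GL (Fin 2) (ZMod q))) = q - 1 := by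
    rw [Matrix.GeneralLinearGroup.center_eq_range_scalar]
    rw [← Nat.card_congr (MonoidHom.ofInjective (f := Matrix.GeneralLinearGroup.scalar (Fin 2))
      ?_).toEquiv, Nat.card_eq_fintype_card, ZMod.card_units]
    intro a b hab
    ext
    have := congrArg (fun u : GL (Fin 2) (ZMod q) => (u : Matrix (Fin 2) (Fin 2) (ZMod q)) 0 0) hab
    simpa using this
  have h3 := Matrix.card_GL_field (𝔽 := ZMod q) 2
  rw [Fin.prod_univ_two, ZMod.card] at h3
  rw [h2] at h1
  have h4 : (q ^ 2 - q ^ 0) * (q ^ 2 - q ^ 1) = q * (q ^ 2 - 1) * (q - 1) := by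
    rw [pow_zero, pow_one, sq q]
    have : q * q - q = q * (q - 1) := by rw [Nat.mul_sub, mul_one]
    rw [this]; ring
  have h5 : Nat.card GG * (q - 1) = q * (q ^ 2 - 1) * (q - 1) := by
    rw [← h1, ← h4]
    exact_mod_cast h3
  exact Nat.eq_of_mul_eq_mul_right (by omega) h5

theorem card_quarterCentralizer (h4 : q % 4 = 3) :
    Nat.card (quarterCentralizer q) = 2 * (q + 1) := by
  have hq := (Fact.out : q.Prime).two_le
  have h1 : Nat.card ((quarterCentralizer q).comap mq) = (q * q - 1) * 2 := by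
    rw [← Nat.card_congr (param h4), Nat.card_prod]
    congr 1
    · rw [Nat.card_eq_fintype_card, Fintype.card_subtype_compl]
      simp
    · simp
  have h2 : ((quarterCentralizer q).comap mq).index = (quarterCentralizer q).index :=
    Subgroup.index_comap_of_surjective _ (QuotientGroup.mk'_surjective _)
  have h3 := Subgroup.card_mul_index ((quarterCentralizer q).comap mq)
  have h5 := Subgroup.card_mul_index (quarterCentralizer q)
  have h6 : Nat.card (GL (Fin 2) (ZMod q)) = Nat.card GG * (q - 1) := by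
    have h3' := Matrix.card_GL_field (𝔽 := ZMod q) 2
    rw [Fin.prod_univ_two, ZMod.card] at h3'
    rw [card_GG, h3']
    simp only [Fin.val_zero, Fin.val_one, pow_zero, pow_one]
    rw [sq q]
    have : q * q - q = q * (q - 1) := by rw [Nat.mul_sub, mul_one]
    rw [this]; ring
  rw [h1, h2, h6, ← h5] at h3
  have hne : (quarterCentralizer q).index ≠ 0 := Subgroup.index_ne_zero_of_finite
  have h7 : (q * q - 1) * 2 = Nat.card (quarterCentralizer q) * (q - 1) := by
    apply Nat.eq_of_mul_eq_mul_right (Nat.pos_of_ne_zero hne)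
    rw [h3]; ring
  have h8 : q * q - 1 = (q + 1) * (q - 1) := by
    have := Nat.sq_sub_sq q 1
    simpa [sq] using this
  rw [h8] at h7
  refine (Nat.eq_of_mul_eq_mul_right (show 0 < q - 1 by omega) ?_).symm
  rw [← h7]; ring

/-- Two conjugates of the centralizer share a nontrivial element. -/
theorem quarterCentralizer_inf_conj_ne_bot (h4 : q % 4 = 3) (y : GG) :
    ∃ z : GG, z ≠ 1 ∧ z ∈ quarterCentralizer q ∧ y⁻¹ * z * y ∈ quarterCentralizer q := by
  obtain ⟨Y, rfl⟩ := QuotientGroup.mk'_surjective _ y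
  set B := Y * quarter * Y⁻¹ with hB
  have hconj : ∀ z : GG, (z * mq B = mq B * z) → (mq Y)⁻¹ * z * mq Y ∈ quarterCentralizer q := by
    intro z hz
    rw [mem_quarterCentralizer]
    simp only [hB, map_mul, map_inv] at hz
    calc (mq Y)⁻¹ * z * mq Y * mq quarter
        = (mq Y)⁻¹ * (z * (mq Y * mq quarter * (mq Y)⁻¹)) * mq Y := by group
      _ = (mq Y)⁻¹ * ((mq Y * mq quarter * (mq Y)⁻¹) * z) * mq Y := by rw [hz]
      _ = mq quarter * ((mq Y)⁻¹ * z * mq Y) := by group
  have htr : (B : Matrix (Fin 2) (Fin 2) (ZMod q)) 1 1 = - B.val 0 0 := by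
    have : Matrix.trace (B : Matrix (Fin 2) (Fin 2) (ZMod q)) = 0 := by
      rw [hB, Units.val_mul, Units.val_mul, Matrix.trace_units_conj]
      simp [Matrix.trace_fin_two]
    rw [Matrix.trace_fin_two] at this
    linear_combination this
  have h2 : (2 : ZMod q) ≠ 0 := by
    intro h
    have hd : q ∣ 2 := (ZMod.natCast_eq_zero_iff 2 q).mp (by exact_mod_cast h)
    have := Nat.le_of_dvd (by norm_num) hd
    omega
  by_cases hc : B.val 0 0 = 0 ∧ B.val 0 1 + B.val 1 0 = 0
  · refine ⟨mq quarter, ?_, (mem_quarterCentralizer _).mpr rfl, hconj _ ?_⟩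
    · intro h
      rw [QuotientGroup.mk'_apply, QuotientGroup.eq_one_iff,
        Matrix.GeneralLinearGroup.mem_center_iff_val_mem_range_scalar] at h
      obtain ⟨t, ht⟩ := h
      have e := congrFun (congrFun ht 1) 0
      simp at e
    · refine ((commute_mq_iff _ _).mpr ⟨1, ?_⟩)
      ext i j
      fin_cases i <;> fin_cases j <;>
        simp [Matrix.mul_apply, Fin.sum_univ_two, Matrix.vecMul, dotProduct, hc.1, htr,
          eq_neg_of_add_eq_zero_left hc.2]
  · let a := B.val 0 0
    let s := B.val 0 1 + B.val 1 0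
    let Cm : Matrix (Fin 2) (Fin 2) (ZMod q) := !![-s, 2 * a; 2 * a, s]
    have hd : Cm.det ≠ 0 := by
      intro h
      simp [Cm, Matrix.det_fin_two] at h
      have : s * s + (2 * a) * (2 * a) = 0 := by linear_combination -h
      obtain ⟨hs, ha⟩ := sq_add_sq_eq_zero h4 this
      exact hc ⟨by simpa [h2] using ha, hs⟩
    refine ⟨mq (Matrix.GeneralLinearGroup.mkOfDetNeZero Cm hd), ?_, ?_, hconj _ ?_⟩
    · intro h
      rw [QuotientGroup.mk'_apply, QuotientGroup.eq_one_iff,
        Matrix.GeneralLinearGroup.mem_center_iff_val_mem_range_scalar] at h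
      obtain ⟨t, ht⟩ := h
      have e1 := congrFun (congrFun ht 0) 0
      have e2 := congrFun (congrFun ht 1) 1
      have e3 := congrFun (congrFun ht 1) 0
      simp [Cm] at e1 e2 e3
      apply hd
      simp [Cm, Matrix.det_fin_two]
      have hs : (2 : ZMod q) * s = 0 := by linear_combination e1 - e2
      simp [h2] at hs
      simp [h2] at e3
      rw [hs, e3]
      ring
    · rw [mem_quarterCentralizer, mem_iff h4]
      right
      simp [Cm]
    · refine (commute_mq_iff _ _).mpr ⟨-1, ?_⟩
      ext i j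
      fin_cases i <;> fin_cases j <;>
        simp [Cm, s, a, Matrix.mul_apply, Fin.sum_univ_two, htr] <;> ring

theorem quarterCentralizer_isPGroup {k : ℕ} (hk : q + 1 = 2 ^ k) (h4 : q % 4 = 3) :
    IsPGroup 2 (quarterCentralizer q) :=
  IsPGroup.of_card (n := k + 1) (by rw [card_quarterCentralizer h4, hk, pow_succ]; ring)

theorem quarterCentralizer_index_odd {k : ℕ} (hk : q + 1 = 2 ^ k) (h4 : q % 4 = 3) :
    ¬ 2 ∣ (quarterCentralizer q).index := by
  have h5 := Subgroup.card_mul_index (quarterCentralizer q)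
  rw [card_quarterCentralizer h4, card_GG] at h5
  have h8 : q ^ 2 - 1 = (q + 1) * (q - 1) := by
    have := Nat.sq_sub_sq q 1
    simpa using this
  rw [h8] at h5
  have h9 : 2 * (quarterCentralizer q).index = q * (q - 1) := by
    apply Nat.eq_of_mul_eq_mul_left (show 0 < q + 1 by omega)
    calc (q + 1) * (2 * (quarterCentralizer q).index)
        = 2 * (q + 1) * (quarterCentralizer q).index := by ring
      _ = _ := by rw [h5]; ring
  rintro ⟨m, hm⟩
  obtain ⟨r, hr⟩ : ∃ r, q = 4 * r + 3 := ⟨q / 4, by omega⟩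
  rw [hm, hr, show 4 * r + 3 - 1 = 2 * (2 * r + 1) by omega] at h9
  have : 2 * m = (4 * r + 3) * (2 * r + 1) := by
    nlinarith [h9]
  have h10 : (2 * m) % 2 = ((4 * r + 3) * (2 * r + 1)) % 2 := by rw [this]
  simp [Nat.mul_mod, Nat.add_mod] at h10

theorem sylow_inf_conj_ne_bot {k : ℕ} (hk : q + 1 = 2 ^ k) (hq : 7 ≤ q)
    (H : Sylow 2 GG) (x : GG) : (H : Subgroup GG) ⊓ MulAut.conj x • (H : Subgroup GG) ≠ ⊥ := by
  have h4 : q % 4 = 3 := by
    have hk3 : 2 ≤ k := by
      by_contra h
      interval_cases k <;> omega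
    obtain ⟨j, rfl⟩ : ∃ j, k = j + 2 := ⟨k - 2, by omega⟩
    rw [pow_add] at hk
    omega
  let S : Sylow 2 GG := (quarterCentralizer_isPGroup hk h4).toSylow (quarterCentralizer_index_odd hk h4)
  obtain ⟨g, hg⟩ := MulAction.exists_smul_eq GG S H
  obtain ⟨z, hz1, hz, hz'⟩ := quarterCentralizer_inf_conj_ne_bot h4 (g⁻¹ * x * g)
  intro hbot
  have hmem : ∀ w : GG, w ∈ quarterCentralizer q → g * w * g⁻¹ ∈ (H : Subgroup GG) := by
    intro w hw
    rw [← hg, Sylow.coe_subgroup_smul]
    have := Subgroup.smul_mem_pointwise_smul w (MulAut.conj g) (S : Subgroup GG) hw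
    simpa [MulAut.smul_def] using this
  have h2 : g * z * g⁻¹ ∈ MulAut.conj x • (H : Subgroup GG) := by
    rw [Subgroup.mem_pointwise_smul_iff_inv_smul_mem]
    have := hmem _ hz'
    convert this using 1
    simp [MulAut.smul_def, MulAut.conj_inv_apply]
    group
  have : g * z * g⁻¹ ∈ (⊥ : Subgroup GG) := by
    rw [← hbot]
    exact ⟨hmem z hz, h2⟩
  rw [Subgroup.mem_bot] at this
  exact hz1 (conj_eq_one_iff.mp this)

end CfsgLib.MersennePGL
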