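/-
A faithful linear representation of Sp(2n, q) in the defining characteristic has degree at least 2n:
weights of a product of n tori, closed under inverting each coordinate.
-/
import Mathlib

set_option linter.unusedSectionVars false
set_option linter.style.haveILetI false

namespace CfsgLib.SpMinDegree

open Matrix

section Flip

variable {M : Type*} [CommGroup M] [DecidableEq M] {n : ℕ}

/-- Invert one coordinate. -/
def flip (i : Fin n) (l : Fin n → M) : Fin n → M := Function.update l i (l i)⁻¹

theorem flip_flip (i : Fin n) (l : Fin n → M) : flip i (flip i l) = l := by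
  simp [flip]

/-- A set of weights closed under the flips and covering `U` has at least `2|U|` members. -/
theorem two_mul_le_card : ∀ (U : Finset (Fin n)) (L : Finset (Fin n → M)),
    (∀ i, ∀ l ∈ L, flip i l ∈ L) → (∀ i ∈ U, ∃ l ∈ L, (l i)⁻¹ ≠ l i) → 2 * U.card ≤ L.card := by
  intro U L
  induction L using Finset.strongInduction generalizing U with
  | _ L ih =>
    intro hflip hcov
    rcases U.eq_empty_or_nonempty with h | ⟨i₀, hi₀⟩
    · simp [h]
    obtain ⟨l, hl, hli⟩ := hcov i₀ hi₀
    let S : Finset (Fin n) := Finset.univ.filter fun i => (l i)⁻¹ ≠ l i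
    let g : Finset (Fin n) → (Fin n → M) := fun T i => if i ∈ T then (l i)⁻¹ else l i
    have hginj : Set.InjOn g (S.powerset : Set (Finset (Fin n))) := by
      intro T hT T' hT' he
      rw [Finset.mem_coe, Finset.mem_powerset] at hT hT'
      ext i
      have h1 := congrFun he i
      simp only [g] at h1
      constructor
      · intro hi
        by_contra hi'
        rw [if_pos hi, if_neg hi'] at h1
        exact (Finset.mem_filter.mp (hT hi)).2 h1
      · intro hi
        by_contra hi'
        rw [if_pos hi, if_neg hi'] at h1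
        exact (Finset.mem_filter.mp (hT' hi)).2 h1.symm
    let O : Finset (Fin n → M) := S.powerset.image g
    have hOcard : O.card = 2 ^ S.card := by
      rw [Finset.card_image_of_injOn hginj, Finset.card_powerset]
    have hgflip : ∀ (i : Fin n) (T : Finset (Fin n)), flip i (g T) = g (symmDiff T {i}) := by
      intro i T
      funext j
      by_cases hj : j = i
      · subst hj
        by_cases hjT : j ∈ T <;> simp [flip, g, hjT, Finset.mem_symmDiff]
      · by_cases hjT : j ∈ T <;> simp [flip, g, hjT, hj, Finset.mem_symmDiff]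
    have hnoS : ∀ (i : Fin n) (T : Finset (Fin n)), i ∉ S → flip i (g T) = g T := by
      intro i T hi
      have hi' : (l i)⁻¹ = l i := by simpa [S] using hi
      funext j
      by_cases hj : j = i
      · subst hj
        by_cases hjT : j ∈ T <;> simp [flip, g, hjT, hi']
      · simp [flip, hj]
    have hOflip : ∀ i, ∀ m ∈ O, flip i m ∈ O := by
      intro i m hm
      obtain ⟨T, hT, rfl⟩ := Finset.mem_image.mp hm
      rw [Finset.mem_powerset] at hT
      by_cases hi : i ∈ S
      · rw [hgflip]
        refine Finset.mem_image_of_mem g (Finset.mem_powerset.mpr ?_)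
        intro j hj
        rw [Finset.mem_symmDiff, Finset.mem_singleton] at hj
        rcases hj with ⟨hj, -⟩ | ⟨rfl, -⟩
        · exact hT hj
        · exact hi
      · rw [hnoS i T hi]
        exact Finset.mem_image_of_mem g (Finset.mem_powerset.mpr hT)
    have hOsub : O ⊆ L := by
      intro m hm
      obtain ⟨T, hT, rfl⟩ := Finset.mem_image.mp hm
      clear hm hT
      induction T using Finset.induction with
      | empty =>
        have : g ∅ = l := by funext i; simp [g]
        rw [this]; exact hl
      | insert a T ha iT =>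
        have : g (insert a T) = flip a (g T) := by
          rw [hgflip]
          congr 1
          ext j
          by_cases hj : j = a <;> simp [Finset.mem_symmDiff, hj, ha]
        rw [this]
        exact hflip a _ iT
    have hne : O.Nonempty := ⟨g ∅, Finset.mem_image_of_mem g (Finset.empty_mem_powerset S)⟩
    have hlt : L \ O ⊂ L := Finset.sdiff_ssubset hOsub hne
    have h := ih (L \ O) hlt (U \ S) ?_ ?_
    · have h1 : U.card ≤ (U \ S).card + S.card := (Finset.card_le_card (by
        intro i hi
        by_cases hS : i ∈ S
        · exact Finset.mem_union_right _ hS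
        · exact Finset.mem_union_left _ (Finset.mem_sdiff.mpr ⟨hi, hS⟩) : U ⊆ (U \ S) ∪ S)).trans
        (Finset.card_union_le _ _)
      have h2 : (L \ O).card + O.card = L.card := Finset.card_sdiff_add_card_eq_card hOsub
      have h3 : 2 * S.card ≤ 2 ^ S.card := by
        rcases Nat.eq_zero_or_pos S.card with h0 | h0
        · omega
        · obtain ⟨k, hk⟩ : ∃ k, S.card = k + 1 := ⟨S.card - 1, by omega⟩
          rw [hk, pow_succ]
          have := Nat.lt_two_pow_self (n := k)
          omega
      omega
    · intro i m hm
      rw [Finset.mem_sdiff] at hm ⊢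
      refine ⟨hflip i m hm.1, fun hc => hm.2 ?_⟩
      have := hOflip i _ hc
      rwa [flip_flip] at this
    · intro i hi
      rw [Finset.mem_sdiff] at hi
      obtain ⟨m, hm, hmi⟩ := hcov i hi.1
      refine ⟨m, Finset.mem_sdiff.mpr ⟨hm, fun hc => hmi ?_⟩, hmi⟩
      obtain ⟨T, -, rfl⟩ := Finset.mem_image.mp hc
      have hi' : (l i)⁻¹ = l i := by simpa [S] using hi.2
      by_cases hiT : i ∈ T <;> simp [g, hiT, hi']

end Flip

section Weights

variable {K : Type*} [Field K] [IsAlgClosed K] {V : Type*} [AddCommGroup V] [Module K V]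
  [FiniteDimensional K V] {n : ℕ} (f : Fin n → Module.End K V)

/-- Common eigenvectors exist in invariant subspaces. -/
theorem exists_common (hc : ∀ i j, f i * f j = f j * f i) (T : Finset (Fin n)) :
    ∀ W : Submodule K V, W ≠ ⊥ → (∀ i, ∀ w ∈ W, f i w ∈ W) →
      ∃ v ∈ W, v ≠ 0 ∧ ∀ i ∈ T, ∃ μ : K, f i v = μ • v := by
  induction T using Finset.induction with
  | empty =>
    intro W hW _
    obtain ⟨v, hv, hv0⟩ := Submodule.exists_mem_ne_zero_of_ne_bot hW
    exact ⟨v, hv, hv0, by simp⟩
  | insert a T ha ih =>
    intro W hW hinv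
    haveI : Nontrivial W := Submodule.nontrivial_iff_ne_bot.mpr hW
    obtain ⟨μ, hμ⟩ := Module.End.exists_eigenvalue ((f a).restrict (hinv a))
    obtain ⟨w, hw⟩ := hμ.exists_hasEigenvector
    let W' : Submodule K V := W ⊓ (LinearMap.ker (f a - μ • (1 : Module.End K V)))
    have hW' : W' ≠ ⊥ := by
      intro h
      have hmem : (w : V) ∈ W' := by
        refine ⟨w.2, ?_⟩
        have := congrArg Subtype.val hw.apply_eq_smul
        simp only [LinearMap.restrict_apply, SetLike.val_smul] at this
        simp [LinearMap.mem_ker, this]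
      rw [h, Submodule.mem_bot] at hmem
      exact hw.2 (Subtype.ext hmem)
    have hinv' : ∀ i, ∀ v ∈ W', f i v ∈ W' := by
      rintro i v ⟨hv1, hv2⟩
      refine ⟨hinv i v hv1, ?_⟩
      simp only [SetLike.mem_coe, LinearMap.mem_ker, LinearMap.sub_apply, LinearMap.smul_apply,
        Module.End.one_apply, sub_eq_zero] at hv2 ⊢
      have h1 := LinearMap.congr_fun (hc a i) v
      simp only [Module.End.mul_apply] at h1
      rw [h1, hv2, map_smul]
    obtain ⟨v, hv, hv0, hvT⟩ := ih W' hW' hinv'
    refine ⟨v, hv.1, hv0, fun i hi => ?_⟩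
    rcases Finset.mem_insert.mp hi with rfl | hi
    · refine ⟨μ, ?_⟩
      have := hv.2
      simp only [SetLike.mem_coe, LinearMap.mem_ker, LinearMap.sub_apply, LinearMap.smul_apply,
        Module.End.one_apply, sub_eq_zero] at this
      exact this
    · exact hvT i hi

/-- Eigenvectors for distinct weights are independent. -/
theorem weights_independent (s : Finset (Fin n → Kˣ)) (v : (Fin n → Kˣ) → V)
    (hv : ∀ l ∈ s, v l ≠ 0 ∧ ∀ i, f i (v l) = (l i : K) • v l) :
    LinearIndepOn K v (s : Set (Fin n → Kˣ)) := by
  classical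
  rw [linearIndepOn_finset_iff]
  induction s using Finset.induction with
  | empty => simp
  | insert a s ha ih =>
    intro c hc
    have hv' := fun l hl => hv l (Finset.mem_insert_of_mem hl)
    obtain ⟨hva, hae⟩ := hv a (Finset.mem_insert_self a s)
    rw [Finset.sum_insert ha] at hc
    have hrest : ∀ l ∈ s, c l = 0 := by
      intro l hl
      obtain ⟨i, hi⟩ := Function.ne_iff.mp (fun e : l = a => ha (e ▸ hl))
      have h1 := congrArg (fun x => f i x - (a i : K) • x) hc
      simp only [map_add, map_smul, hae, smul_add, map_sum, map_zero, smul_zero, sub_zero] at h1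
      have h2 : ∑ m ∈ s, (c m * ((m i : K) - a i)) • v m = 0 := by
        rw [← h1]
        simp only [Finset.smul_sum, smul_comm (a i : K)]
        rw [add_sub_add_left_eq_sub, ← Finset.sum_sub_distrib]
        refine Finset.sum_congr rfl fun m hm => ?_
        rw [(hv' m hm).2 i, ← smul_sub, ← sub_smul, smul_smul]
      have h3 := ih hv' _ h2 l hl
      rcases mul_eq_zero.mp h3 with h | h
      · exact h
      · exact absurd (Units.ext (sub_eq_zero.mp h)) hi
    intro l hl
    rcases Finset.mem_insert.mp hl with rfl | hl
    · rw [Finset.sum_eq_zero (fun m hm => by rw [hrest m hm, zero_smul]), add_zero] at hc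
      exact (smul_eq_zero.mp hc).resolve_right hva
    · exact hrest l hl

/-- Pairwise commuting invertible maps of order prime to the characteristic, each inverted by a map
commuting with the others, need a space of twice their number as dimension. -/
theorem two_mul_le_finrank (p : ℕ) [Fact p.Prime] [CharP K p] (g : Fin n → Module.End K V) (r : ℕ)
    (hr : r.Coprime p) (hfr : ∀ i, f i ^ r = 1) (hf2 : ∀ i, f i ^ 2 ≠ 1)
    (hc : ∀ i j, f i * f j = f j * f i) (hgf : ∀ i, f i * g i * f i = g i)
    (hgc : ∀ i j, i ≠ j → g i * f j = f j * g i) (hginj : ∀ i, Function.Injective (g i)) :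
    2 * n ≤ Module.finrank K V := by
  classical
  let L : Set (Fin n → Kˣ) := {l | ∃ v : V, v ≠ 0 ∧ ∀ i, f i v = (l i : K) • v}
  have hbound : ∀ s : Finset (Fin n → Kˣ), (↑s ⊆ L) → s.card ≤ Module.finrank K V := by
    intro s hs
    have hex : ∀ l : Fin n → Kˣ, ∃ v : V, l ∈ s → v ≠ 0 ∧ ∀ i, f i v = (l i : K) • v := by
      intro l
      by_cases hl : l ∈ s
      · obtain ⟨v, hv⟩ := hs hl; exact ⟨v, fun _ => hv⟩
      · exact ⟨0, fun h => absurd h hl⟩
    choose v hv using hex
    simpa using (weights_independent f s v hv).fintype_card_le_finrank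
  have hfin : L.Finite := by
    by_contra hinf
    obtain ⟨s, hs, hcard⟩ := Set.Infinite.exists_subset_card_eq hinf (Module.finrank K V + 1)
    have := hbound s hs
    omega
  have hflip : ∀ i, ∀ l ∈ hfin.toFinset, flip i l ∈ hfin.toFinset := by
    intro i l hl
    rw [Set.Finite.mem_toFinset] at hl ⊢
    obtain ⟨v, hv0, hv⟩ := hl
    refine ⟨g i v, fun h => hv0 (hginj i (h.trans (map_zero _).symm)), fun j => ?_⟩
    by_cases hj : j = i
    · subst hj
      have h1 := LinearMap.congr_fun (hgf j) v
      simp only [Module.End.mul_apply, hv, map_smul] at h1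
      simp only [flip, Function.update_self, Units.val_inv_eq_inv_val]
      rw [← h1, smul_smul, inv_mul_cancel₀ (Units.ne_zero _), one_smul]
      rw [h1]
    · have h1 := LinearMap.congr_fun (hgc i j (Ne.symm hj)) v
      simp only [Module.End.mul_apply, hv, map_smul] at h1
      simp only [flip, Function.update_of_ne hj]
      exact h1.symm
  have hcov : ∀ i ∈ (Finset.univ : Finset (Fin n)), ∃ l ∈ hfin.toFinset, (l i)⁻¹ ≠ l i := by
    intro i _
    have hne : (LinearMap.range (f i ^ 2 - 1)) ≠ ⊥ := by
      intro h
      exact hf2 i (sub_eq_zero.mp (LinearMap.range_eq_bot.mp h))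
    have hinv : ∀ j, ∀ w ∈ LinearMap.range (f i ^ 2 - 1), f j w ∈ LinearMap.range (f i ^ 2 - 1) := by
      rintro j _ ⟨u, rfl⟩
      refine ⟨f j u, ?_⟩
      have : (f i ^ 2 - 1) * f j = f j * (f i ^ 2 - 1) :=
        (((Commute.pow_left (hc i j) 2).sub_left (Commute.one_left _))).eq
      exact LinearMap.congr_fun this u
    obtain ⟨v, hvW, hv0, hvf⟩ := exists_common f hc Finset.univ _ hne hinv
    choose μ hμ using fun j => hvf j (Finset.mem_univ j)
    have hpow : ∀ j (k : ℕ), (f j ^ k) v = μ j ^ k • v := by
      intro j k
      induction k with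
      | zero => simp
      | succ k ih => rw [pow_succ', Module.End.mul_apply, ih, map_smul, hμ, smul_smul, pow_succ]
    have hμr : ∀ j, μ j ^ r = 1 := by
      intro j
      have h1 := hpow j r
      rw [hfr, Module.End.one_apply] at h1
      by_contra h
      apply hv0
      have h2 : (μ j ^ r - 1) • v = 0 := by rw [sub_smul, one_smul, ← h1, sub_self]
      exact (smul_eq_zero.mp h2).resolve_left (sub_ne_zero.mpr h)
    have hr0 : r ≠ 0 := by
      intro h
      rw [h, Nat.coprime_zero_left] at hr
      exact (Fact.out : p.Prime).ne_one hr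
    have hμ0 : ∀ j, μ j ≠ 0 := fun j h => by
      have := hμr j
      rw [h, zero_pow hr0] at this
      exact zero_ne_one this
    refine ⟨fun j => Units.mk0 (μ j) (hμ0 j), ?_, ?_⟩
    · rw [Set.Finite.mem_toFinset]
      exact ⟨v, hv0, fun j => hμ j⟩
    · intro he
      have h1 : μ i ^ 2 = 1 := by
        have h2 := congrArg Units.val he
        simp only [Units.val_inv_eq_inv_val, Units.val_mk0] at h2
        rw [sq]
        conv_lhs => arg 1; rw [← h2]
        exact inv_mul_cancel₀ (hμ0 i)
      obtain ⟨u, hu⟩ := hvW
      -- `v` is a fixed vector of `f i ^ 2` in the range of `f i ^ 2 - 1`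
      have hT : ∀ k : ℕ, ((f i ^ 2) ^ k) u = u + (k : K) • v := by
        intro k
        induction k with
        | zero => simp
        | succ k ih =>
          have hv2 : (f i ^ 2) v = v := by rw [hpow, h1, one_smul]
          have hu2 : (f i ^ 2) u = u + v := by
            rw [← hu, LinearMap.sub_apply, Module.End.one_apply]; abel
          rw [pow_succ', Module.End.mul_apply, ih, map_add, map_smul, hv2, hu2, Nat.cast_succ, add_smul,
            one_smul]
          abel
      have h3 := hT r
      rw [← pow_mul, mul_comm 2 r, pow_mul, hfr, one_pow, Module.End.one_apply] at h3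
      have h4 : (r : K) • v = 0 := by simpa using h3
      have h5 : (r : K) ≠ 0 := by
        rw [Ne, CharP.cast_eq_zero_iff K p]
        intro hd
        have := Nat.eq_one_of_dvd_coprimes hr hd (dvd_refl p)
        exact (Fact.out : p.Prime).ne_one this
      exact hv0 ((smul_eq_zero.mp h4).resolve_left h5)
  calc 2 * n = 2 * (Finset.univ : Finset (Fin n)).card := by simp
    _ ≤ hfin.toFinset.card := two_mul_le_card _ _ hflip hcov
    _ ≤ Module.finrank K V := hbound _ (by simp)

end Weights

end CfsgLib.SpMinDegree
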