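/-
Sp(2n, q) contains a product of n copies of SL(2, q); each copy has a torus element of order at least
three, prime to the characteristic, that is inverted inside the copy.
-/
import Cfsg.Agent.Lib.KnownSimple.SpMinDegree

set_option linter.unusedSectionVars false
set_option linter.style.haveILetI false
set_option linter.unusedSimpArgs false

namespace CfsgLib.SpMinDegree

open Matrix

variable {F : Type*} [Field F] {n : ℕ}

/-- The product of `n` copies of `SL(2)` placed along the hyperbolic pairs. -/
def blockMat (A : Fin n → SpecialLinearGroup (Fin 2) F) : Matrix (Fin n ⊕ Fin n) (Fin n ⊕ Fin n) F :=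
  fromBlocks (diagonal fun i => (A i : Matrix (Fin 2) (Fin 2) F) 0 0)
    (diagonal fun i => (A i : Matrix (Fin 2) (Fin 2) F) 0 1)
    (diagonal fun i => (A i : Matrix (Fin 2) (Fin 2) F) 1 0)
    (diagonal fun i => (A i : Matrix (Fin 2) (Fin 2) F) 1 1)

theorem blockMat_mem (A : Fin n → SpecialLinearGroup (Fin 2) F) :
    blockMat A ∈ symplecticGroup (Fin n) F := by
  have hd : ∀ i, (A i : Matrix (Fin 2) (Fin 2) F) 0 0 * (A i : Matrix (Fin 2) (Fin 2) F) 1 1 -
      (A i : Matrix (Fin 2) (Fin 2) F) 0 1 * (A i : Matrix (Fin 2) (Fin 2) F) 1 0 = 1 := fun i => by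
    rw [← Matrix.det_fin_two]; exact (A i).2
  rw [SymplecticGroup.mem_iff, blockMat, J, fromBlocks_transpose, fromBlocks_multiply, fromBlocks_multiply]
  simp only [diagonal_transpose, mul_zero, zero_mul, mul_one, one_mul, mul_neg, neg_mul, zero_add, add_zero,
    diagonal_mul_diagonal, diagonal_neg, diagonal_add]
  rw [fromBlocks_inj]
  refine ⟨?_, ?_, ?_, ?_⟩ <;> ext i j <;> by_cases h : i = j
  all_goals first
    | (subst h; simp; linear_combination hd i)
    | (subst h; simp; linear_combination (-1 : F) * hd i)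
    | (subst h; simp; ring)
    | (simp [h])

theorem blockMat_mul (A B : Fin n → SpecialLinearGroup (Fin 2) F) :
    blockMat (A * B) = blockMat A * blockMat B := by
  have e : ∀ i a b, ((A i * B i : SpecialLinearGroup (Fin 2) F) : Matrix (Fin 2) (Fin 2) F) a b =
      (A i : Matrix (Fin 2) (Fin 2) F) a 0 * (B i : Matrix (Fin 2) (Fin 2) F) 0 b +
        (A i : Matrix (Fin 2) (Fin 2) F) a 1 * (B i : Matrix (Fin 2) (Fin 2) F) 1 b := fun i a b => by
    show ((A i : Matrix (Fin 2) (Fin 2) F) * (B i : Matrix (Fin 2) (Fin 2) F)) a b = _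
    rw [Matrix.mul_apply, Fin.sum_univ_two]
  simp only [blockMat, fromBlocks_multiply, diagonal_mul_diagonal, diagonal_add, Pi.mul_apply, e]

theorem blockMat_one : blockMat (1 : Fin n → SpecialLinearGroup (Fin 2) F) = 1 := by
  simp [blockMat]

/-- The embedding of the product. -/
def blockHom : (Fin n → SpecialLinearGroup (Fin 2) F) →* symplecticGroup (Fin n) F where
  toFun A := ⟨blockMat A, blockMat_mem A⟩
  map_one' := Subtype.ext blockMat_one
  map_mul' A B := Subtype.ext (blockMat_mul A B)

theorem blockHom_injective : Function.Injective (blockHom : (Fin n → SpecialLinearGroup (Fin 2) F) → _) := by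
  intro A B h
  have h' : blockMat A = blockMat B := congrArg Subtype.val h
  simp only [blockMat, fromBlocks_inj, diagonal_eq_diagonal_iff] at h'
  obtain ⟨h00, h01, h10, h11⟩ := h'
  funext i
  ext a b
  fin_cases a <;> fin_cases b <;> simp [h00 i, h01 i, h10 i, h11 i]

/-- An element of `SL(2)` from its entries. -/
def slMk (a b c d : F) (h : a * d - b * c = 1) : SpecialLinearGroup (Fin 2) F :=
  ⟨!![a, b; c, d], by rw [det_fin_two_of]; exact h⟩

theorem slMk_congr {a b c d a' b' c' d' : F} {h h'} (h1 : a = a') (h2 : b = b') (h3 : c = c') (h4 : d = d') :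
    slMk a b c d h = slMk a' b' c' d' h' := by
  subst h1 h2 h3 h4; rfl

theorem slMk_mul {a b c d a' b' c' d' : F} (h : a * d - b * c = 1) (h' : a' * d' - b' * c' = 1) :
    slMk a b c d h * slMk a' b' c' d' h' =
      slMk (a * a' + b * c') (a * b' + b * d') (c * a' + d * c') (c * b' + d * d')
        (by linear_combination (a' * d' - b' * c') * h + h') := by
  apply Subtype.ext
  show !![a, b; c, d] * !![a', b'; c', d'] = !![a * a' + b * c', a * b' + b * d'; c * a' + d * c', c * b' + d * d']
  ext i j
  fin_cases i <;> fin_cases j <;> simp [Matrix.mul_apply, Fin.sum_univ_two]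

theorem slMk_one : (1 : SpecialLinearGroup (Fin 2) F) = slMk 1 0 0 1 (by ring) := by
  apply Subtype.ext
  show (1 : Matrix (Fin 2) (Fin 2) F) = !![1, 0; 0, 1]
  ext i j
  fin_cases i <;> fin_cases j <;> simp

theorem slMk_ne_one {a b c d : F} {h} (ha : a ≠ 1) : slMk a b c d h ≠ 1 := by
  intro e
  have e' : !![a, b; c, d] = (1 : Matrix (Fin 2) (Fin 2) F) := congrArg Subtype.val e
  have := congrFun (congrFun e' 0) 0
  simp at this
  exact ha this

theorem slMk_ne_one' {a b c d : F} {h} (hb : b ≠ 0) : slMk a b c d h ≠ 1 := by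
  intro e
  have e' : !![a, b; c, d] = (1 : Matrix (Fin 2) (Fin 2) F) := congrArg Subtype.val e
  have := congrFun (congrFun e' 0) 1
  simp at this
  exact hb this

/-- An element of `SL(2, q)` of order at least three, prime to the characteristic, inverted by another. -/
theorem exists_torus [Fintype F] (p : ℕ) [Fact p.Prime] [CharP F p] :
    ∃ (a s : SpecialLinearGroup (Fin 2) F) (r : ℕ), r.Coprime p ∧ a ^ r = 1 ∧ a ^ 2 ≠ 1 ∧ a * s * a = s := by
  classical
  obtain ⟨k, hp, hcard⟩ := FiniteField.card F p
  by_cases h4 : 4 ≤ Fintype.card F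
  · obtain ⟨t, ht⟩ := IsCyclic.exists_monoid_generator (α := Fˣ)
    have hord : orderOf t = Fintype.card F - 1 := by
      rw [← Fintype.card_units, ← Nat.card_eq_fintype_card]
      exact orderOf_eq_card_of_forall_mem_powers ht
    have hdet : ∀ u : Fˣ, (u : F) * ((u⁻¹ : Fˣ) : F) - 0 * 0 = 1 := fun u => by simp
    let D : Fˣ → SpecialLinearGroup (Fin 2) F := fun u => slMk (u : F) 0 0 ((u⁻¹ : Fˣ) : F) (hdet u)
    have hD : ∀ u v, D u * D v = D (u * v) := fun u v => by
      simp only [D, slMk_mul]
      exact slMk_congr (by simp) (by simp) (by simp) (by simp [mul_comm])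
    have hD1 : D 1 = 1 := by
      rw [slMk_one]
      exact slMk_congr (by simp) rfl rfl (by simp)
    have hpow : ∀ j : ℕ, D t ^ j = D (t ^ j) := by
      intro j
      induction j with
      | zero => rw [pow_zero, pow_zero, hD1]
      | succ j ih => rw [pow_succ, ih, hD, pow_succ]
    refine ⟨D t, slMk 0 1 (-1) 0 (by ring), Fintype.card F - 1, ?_, ?_, ?_, ?_⟩
    · rw [Nat.coprime_comm, hp.coprime_iff_not_dvd]
      intro hd
      have h1 : p ∣ Fintype.card F := hcard ▸ dvd_pow_self p k.ne_zero
      have := Nat.dvd_sub h1 hd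
      rw [show Fintype.card F - (Fintype.card F - 1) = 1 by omega, Nat.dvd_one] at this
      exact hp.ne_one this
    · rw [hpow, ← hord, pow_orderOf_eq_one, hD1]
    · rw [hpow]
      refine slMk_ne_one fun h => ?_
      have := Nat.le_of_dvd (by norm_num) (orderOf_dvd_of_pow_eq_one (Units.val_eq_one.mp h))
      omega
    · simp only [D, slMk_mul]
      exact slMk_congr (by simp) (by simp) (by simp) (by simp)
  · have h2 : 2 ≤ Fintype.card F := Fintype.one_lt_card
    by_cases h3 : Fintype.card F = 2
    · have hp2 : p = 2 := by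
        have h1 : p ∣ 2 := h3 ▸ (hcard ▸ dvd_pow_self p k.ne_zero)
        exact (Nat.prime_dvd_prime_iff_eq hp Nat.prime_two).mp h1
      subst hp2
      have h20 : (2 : F) = 0 := CharTwo.two_eq_zero
      refine ⟨slMk 0 (-1) 1 (-1) (by ring), slMk 0 1 1 0 (by linear_combination (-1 : F) * h20), 3, by decide, ?_, ?_, ?_⟩
      · rw [pow_succ, pow_succ, pow_one, slMk_mul, slMk_mul, slMk_one]
        exact slMk_congr (by ring) (by ring) (by ring) (by ring)
      · rw [pow_two, slMk_mul]
        exact slMk_ne_one' (by simp)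
      · rw [slMk_mul, slMk_mul]
        exact slMk_congr (by ring) (by ring) (by ring) (by ring)
    · have hq3 : Fintype.card F = 3 := by omega
      have hp3 : p = 3 := by
        have h1 : p ∣ 3 := hq3 ▸ (hcard ▸ dvd_pow_self p k.ne_zero)
        exact (Nat.prime_dvd_prime_iff_eq hp Nat.prime_three).mp h1
      subst hp3
      have h30 : (3 : F) = 0 := by
        have := CharP.cast_eq_zero F 3
        simpa using this
      refine ⟨slMk 0 1 (-1) 0 (by ring), slMk 1 1 1 (-1) (by linear_combination (-1 : F) * h30), 4, by decide, ?_, ?_, ?_⟩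
      · rw [pow_succ, pow_succ, pow_succ, pow_one, slMk_mul, slMk_mul, slMk_mul, slMk_one]
        exact slMk_congr (by ring) (by ring) (by ring) (by ring)
      · rw [pow_two, slMk_mul]
        exact slMk_ne_one fun h => one_ne_zero (α := F) (by linear_combination h + (1 : F) * h30)
      · rw [slMk_mul, slMk_mul]
        exact slMk_congr (by ring) (by ring) (by ring) (by ring)

/-- Faithful representations of `Sp(2n, q)` over `F_q` have degree at least `2n`. -/
theorem two_mul_le_degree [Fintype F] {d : ℕ} (ρ : ↥(symplecticGroup (Fin n) F) →* GL (Fin d) F)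
    (hρ : Function.Injective ρ) : 2 * n ≤ d := by
  classical
  obtain ⟨p, _⟩ := CharP.exists F
  haveI : Fact p.Prime := ⟨CharP.char_is_prime F p⟩
  obtain ⟨a, s, r, hr, har, ha2, has⟩ := exists_torus (F := F) p
  let K := AlgebraicClosure F
  haveI : CharP K p := charP_of_injective_algebraMap (algebraMap F K).injective p
  let Φ : GL (Fin d) F →* Module.End K (Fin d → K) :=
    ((Matrix.toLinAlgEquiv' (R := K) (n := Fin d)).toMonoidHom).comp
      (((algebraMap F K).mapMatrix (m := Fin d)).toMonoidHom.comp (Units.coeHom _))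
  have hΦ : Function.Injective Φ := by
    intro x y h
    apply Units.ext
    have h' := (Matrix.toLinAlgEquiv' (R := K) (n := Fin d)).injective h
    ext i j
    exact (algebraMap F K).injective (congrFun (congrFun h' i) j)
  let Ψ : (Fin n → SpecialLinearGroup (Fin 2) F) →* Module.End K (Fin d → K) := Φ.comp (ρ.comp blockHom)
  have hΨ : Function.Injective Ψ := hΦ.comp (hρ.comp blockHom_injective)
  have hunit : ∀ x, Function.Injective (Ψ x) := by
    intro x u v h
    have h1 := congrArg (Ψ x⁻¹) h
    rw [← Module.End.mul_apply, ← Module.End.mul_apply, ← map_mul, inv_mul_cancel, map_one] at h1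
    exact h1
  have := two_mul_le_finrank (fun i => Ψ (Pi.mulSingle i a)) p (fun i => Ψ (Pi.mulSingle i s)) r hr
    (fun i => by rw [← map_pow, ← Pi.mulSingle_pow, har, Pi.mulSingle_one, map_one])
    (fun i h => ha2 (by
      rw [← map_pow, ← map_one Ψ] at h
      have h2 := congrFun (hΨ h) i
      simpa [← Pi.mulSingle_pow] using h2))
    (fun i j => by
      rw [← map_mul, ← map_mul]
      congr 1
      by_cases h : i = j
      · subst h; rfl
      · exact (Pi.mulSingle_commute (f := fun _ : Fin n => SpecialLinearGroup (Fin 2) F) h a a).eq)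
    (fun i => by rw [← map_mul, ← map_mul, ← Pi.mulSingle_mul, ← Pi.mulSingle_mul, has])
    (fun i j h => by rw [← map_mul, ← map_mul]; exact congrArg Ψ (Pi.mulSingle_commute (f := fun _ : Fin n => SpecialLinearGroup (Fin 2) F) h s a).eq)
    (fun i => hunit _)
  simpa using this

end CfsgLib.SpMinDegree
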